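import Cfsg.Agent.Lib.Spor.Cos.Fi24Up.Upper
import Cfsg.Agent.Lib.Fus.Fi24Model.Presented
import Cfsg.Agent.Lib.Fus.Fi24Model.Exists

/-!
The presented Fi24 is the concrete group on 306936 points.
-/

set_option autoImplicit false
set_option maxRecDepth 100000
set_option maxHeartbeats 4000000

open Cfsg Cfsg.Spor

namespace Cfsg.Agent.Spor.Cos.Fi24Up

open Cfsg.Agent.Fus.Fi24Model (GG gen12 num24 o0 Xp)

/-- The map onto the concrete group. -/
noncomputable def piG : Spor.Fi24 →* ↥GG := Fus.Fi24Model.exists_hom24.choose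

theorem piG_surjective : Function.Surjective piG := Fus.Fi24Model.exists_hom24.choose_spec.1

theorem piG_g {s : ℕ} (hs : s < 12) : ((piG (g s) : ↥GG) : Equiv.Perm Xp) = gen12 s := by
  have h := Fus.Fi24Model.exists_hom24.choose_spec.2
  have e : ∀ a, g (num a) = PresentedGroup.of a := pres.gen_idx
  obtain ⟨a, rfl⟩ : ∃ a, num a = s := by
    interval_cases s
    exacts [⟨.l, rfl⟩, ⟨.k, rfl⟩, ⟨.a, rfl⟩, ⟨.b, rfl⟩, ⟨.c, rfl⟩, ⟨.d, rfl⟩, ⟨.e, rfl⟩, ⟨.f, rfl⟩,
      ⟨.g, rfl⟩, ⟨.j, rfl⟩, ⟨.h, rfl⟩, ⟨.i, rfl⟩]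
  rw [e]
  exact (h a).trans (by cases a <;> rfl)

theorem gen12_fix {s : ℕ} (hs : s ∈ hLetters) : gen12 s o0 = o0 := by
  have hc : (hLetters.all fun t => Nat.blt t 12 && Nat.beq (Fus.Fi24Model.im12 t o0) o0) = true := by decide +kernel
  have h := List.all_eq_true.1 hc s hs
  rw [Bool.and_eq_true] at h
  exact Fin.ext ((Fus.Fi24Model.gen12_val (Nat.le_of_ble_eq_true h.1) o0).trans (Nat.eq_of_beq_eq_true h.2))

theorem index_eq : HH.index = 306936 := by
  refine le_antisymm index_HH.2 ?_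
  have := index_HH.1
  set S := ((MulAction.stabilizer (Equiv.Perm Xp) o0).comap GG.subtype).comap piG
  have hle : HH ≤ S := by
    refine (Subgroup.closure_le _).2 ?_
    rintro _ ⟨w, hw, rfl⟩
    obtain ⟨s, hs, rfl⟩ := List.mem_map.1 hw
    have h12 : s < 12 := by
      simp only [hLetters, List.mem_cons, List.not_mem_nil, or_false] at hs
      omega
    show ((piG (ev g [s]) : ↥GG) : Equiv.Perm Xp) o0 = o0
    rw [show ev g [s] = g s by simp [ev], piG_g h12]
    exact gen12_fix hs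
  refine le_trans ?_ (Nat.le_of_dvd (Nat.pos_of_ne_zero Subgroup.FiniteIndex.index_ne_zero)
    (Subgroup.index_dvd_of_le hle))
  let F : Spor.Fi24 ⧸ S → Xp := Quotient.lift (fun y => ((piG y : ↥GG) : Equiv.Perm Xp) o0) fun a b h => by
    have hab : ((piG (a⁻¹ * b) : ↥GG) : Equiv.Perm Xp) o0 = o0 := QuotientGroup.leftRel_apply.1 h
    show ((piG a : ↥GG) : Equiv.Perm Xp) o0 = ((piG b : ↥GG) : Equiv.Perm Xp) o0
    conv_rhs => rw [show b = a * (a⁻¹ * b) by group, map_mul, Subgroup.coe_mul, Equiv.Perm.mul_apply, hab]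
  have hF : Function.Surjective F := fun p => by
    obtain ⟨a, ha, e⟩ := Fus.Fi24Model.from_zero p
    obtain ⟨y, hy⟩ := piG_surjective ⟨a, ha⟩
    refine ⟨QuotientGroup.mk y, ?_⟩
    show ((piG y : ↥GG) : Equiv.Perm Xp) o0 = p
    rw [hy]
    exact e
  have : S.FiniteIndex := Subgroup.finiteIndex_of_le hle
  exact (Fus.Fi24Model.M_eq.symm.trans (Nat.card_fin _).symm).trans_le (Nat.card_le_card_of_surjective F hF)

theorem card_HH_le : Finite HH ∧ Nat.card HH ≤ 2 * 4089470473293004800 := by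
  have := Fi23.finite
  let F : Spor.Fi23 × Fin 2 → HH := fun p =>
    ⟨phi p.1 * g 0 ^ (p.2 : ℕ), HH.mul_mem (phi_mem_HH _) (HH.pow_mem l_mem_HH _)⟩
  have hF : Function.Surjective F := by
    rintro ⟨y, hy⟩
    obtain ⟨f, e, rfl⟩ := exists_phi_eq hy
    refine ⟨(f, ⟨e % 2, Nat.mod_lt _ two_pos⟩), Subtype.ext ?_⟩
    show phi f * g 0 ^ (e % 2) = phi f * g 0 ^ e
    conv_rhs => rw [← Nat.div_add_mod e 2, pow_add, l_pow_even (n := 2 * (e / 2)) (by omega), one_mul]
  refine ⟨Finite.of_surjective F hF, (Nat.card_le_card_of_surjective F hF).trans_eq ?_⟩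
  rw [Nat.card_prod, Fi23.card_eq, Nat.card_fin]

theorem piG_bijective : Function.Bijective piG := by
  have := index_HH.1
  have := card_HH_le.1
  have : Finite Spor.Fi24 := (Subgroup.finite_iff_finite_and_finiteIndex (H := HH)).2 ⟨inferInstance, inferInstance⟩
  refine (Nat.bijective_iff_surjective_and_card _).2 ⟨piG_surjective, le_antisymm ?_ ?_⟩
  · rw [Fus.Fi24Model.card_GG, ← HH.index_mul_card, index_eq]
    exact Nat.mul_le_mul_left _ card_HH_le.2
  · exact Nat.card_le_card_of_surjective _ piG_surjective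

/-- The presented group is the concrete one. -/
noncomputable def equivGG : Spor.Fi24 ≃* ↥GG := MulEquiv.ofBijective piG piG_bijective

theorem isFi24' : IsFi24' Spor.Fi24' := by
  obtain ⟨-, hs, hc⟩ := Fus.Fi24Model.commutator_spec
  have e : (commutator Spor.Fi24).map equivGG.toMonoidHom = commutator ↥GG := by
    rw [commutator_def, Subgroup.map_commutator, commutator_def,
      Subgroup.map_top_of_surjective equivGG.toMonoidHom equivGG.surjective]
  let e' : ↥(commutator Spor.Fi24) ≃* ↥(commutator ↥GG) :=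
    ((commutator Spor.Fi24).equivMapOfInjective _ equivGG.injective).trans (MulEquiv.subgroupCongr e)
  exact ⟨e'.isSimpleGroup_congr.2 hs, (Nat.card_congr e'.toEquiv).trans hc⟩

end Cfsg.Agent.Spor.Cos.Fi24Up
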