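import Cfsg.Agent.Lib.Spor.Cos.Cox

/-! The subdiagram without g and j, with the E7 relation. -/

set_option autoImplicit false
set_option maxRecDepth 100000
set_option maxHeartbeats 4000000

open Cfsg.Spor

namespace Cfsg.Agent.Spor.Cos.Fi24Up

/-- The generators. -/
inductive QGen | l | k | a | b | c | d | e | f | h | i
deriving DecidableEq

/-- The edges. -/
def qEdges : List (QGen × ℕ × QGen) := [(.l, 3, .k), (.k, 3, .a), (.a, 3, .b), (.b, 3, .c), (.c, 3, .d), (.d, 3, .e), (.d, 3, .h), (.e, 3, .f), (.h, 3, .i)]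

/-- The relation making l a power of a Coxeter element. -/
def qExtra : List (FreeGroup QGen) := [FreeGroup.of QGen.l * (((FreeGroup.of QGen.a * FreeGroup.of QGen.b * FreeGroup.of QGen.c * FreeGroup.of QGen.d * FreeGroup.of QGen.e * FreeGroup.of QGen.f * FreeGroup.of QGen.h) ^ 9)⁻¹)]

/-- The presented group. -/
abbrev Q : Type := Cfsg.Spor.CoxPresented QGen qEdges qExtra

/-- The generators in order. -/
def qAlph : List QGen := [.l, .k, .a, .b, .c, .d, .e, .f, .h, .i]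

/-- The place of a generator. -/
def qNum : QGen → ℕ
  | .l => 0
  | .k => 1
  | .a => 2
  | .b => 3
  | .c => 4
  | .d => 5
  | .e => 6
  | .f => 7
  | .h => 8
  | .i => 9

/-- The relations as words. -/
def qWords : List (List ℕ) := [[0, 1, 0, 1, 0, 1],
  [0, 2, 0, 2],
  [0, 3, 0, 3],
  [0, 4, 0, 4],
  [0, 5, 0, 5],
  [0, 6, 0, 6],
  [0, 7, 0, 7],
  [0, 8, 0, 8],
  [0, 9, 0, 9],
  [1, 2, 1, 2, 1, 2],
  [1, 3, 1, 3],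
  [1, 4, 1, 4],
  [1, 5, 1, 5],
  [1, 6, 1, 6],
  [1, 7, 1, 7],
  [1, 8, 1, 8],
  [1, 9, 1, 9],
  [2, 3, 2, 3, 2, 3],
  [2, 4, 2, 4],
  [2, 5, 2, 5],
  [2, 6, 2, 6],
  [2, 7, 2, 7],
  [2, 8, 2, 8],
  [2, 9, 2, 9],
  [3, 4, 3, 4, 3, 4],
  [3, 5, 3, 5],
  [3, 6, 3, 6],
  [3, 7, 3, 7],
  [3, 8, 3, 8],
  [3, 9, 3, 9],
  [4, 5, 4, 5, 4, 5],
  [4, 6, 4, 6],
  [4, 7, 4, 7],
  [4, 8, 4, 8],
  [4, 9, 4, 9],
  [5, 6, 5, 6, 5, 6],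
  [5, 7, 5, 7],
  [5, 8, 5, 8, 5, 8],
  [5, 9, 5, 9],
  [6, 7, 6, 7, 6, 7],
  [6, 8, 6, 8],
  [6, 9, 6, 9],
  [7, 8, 7, 8],
  [7, 9, 7, 9],
  [8, 9, 8, 9, 8, 9],
  [0, 8, 7, 6, 5, 4, 3, 2, 8, 7, 6, 5, 4, 3, 2, 8, 7, 6, 5, 4, 3, 2, 8, 7, 6, 5, 4, 3, 2, 8, 7, 6, 5, 4, 3, 2, 8, 7, 6, 5, 4, 3, 2, 8, 7, 6, 5, 4, 3, 2, 8, 7, 6, 5, 4, 3, 2, 8, 7, 6, 5, 4, 3, 2]]

theorem qPres : Pres qEdges qExtra qAlph qNum qWords where
  index := by intro a; cases a <;> rfl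
  node := by intro a; cases a <;> decide
  order := rfl
  fromRels := by decide +kernel
  toBase := by decide +kernel

/-- The generators by number. -/
noncomputable def qg : ℕ → Q := gen qEdges qExtra qAlph

theorem qg_sq (s : ℕ) : qg s * qg s = 1 := qPres.inv s

theorem qg_words : ∀ w ∈ qWords, ev qg w = 1 := fun _ hw => qPres.ev_base hw

theorem qg_gen : Subgroup.closure {x | ∃ s < 10, qg s = x} = ⊤ := qPres.closure_gen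

/-- The spider word. -/
def qSpider : List ℕ := [5, 4, 3, 5, 6, 7, 5, 8, 9, 5, 4, 3, 5, 6, 7, 5, 8, 9, 5, 4, 3, 5, 6, 7, 5, 8, 9, 5, 4, 3, 5, 6, 7, 5, 8, 9, 5, 4, 3, 5, 6, 7, 5, 8, 9, 5, 4, 3, 5, 6, 7, 5, 8, 9, 5, 4, 3, 5, 6, 7, 5, 8, 9, 5, 4, 3, 5, 6, 7, 5, 8, 9, 5, 4, 3, 5, 6, 7, 5, 8, 9, 5, 4, 3, 5, 6, 7, 5, 8, 9]

end Cfsg.Agent.Spor.Cos.Fi24Up
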