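import Cfsg.Agent.Lib.Spor.Cos.Fi24Up.ActQData
import Cfsg.Agent.Lib.Spor.Cos.Fi24Up.QPres

/-! The action on 1080 points satisfies the relations. -/

set_option autoImplicit false
set_option maxRecDepth 100000
set_option maxHeartbeats 4000000

namespace Cfsg.Agent.Spor.Cos.Fi24Up

theorem actQ_rels0 : allBlock (actQ.chkFix qWords) 1080 256 0 = true := by decide +kernel

theorem actQ_rels1 : allBlock (actQ.chkFix qWords) 1080 256 1 = true := by decide +kernel

theorem actQ_rels2 : allBlock (actQ.chkFix qWords) 1080 256 2 = true := by decide +kernel

theorem actQ_rels3 : allBlock (actQ.chkFix qWords) 1080 256 3 = true := by decide +kernel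

theorem actQ_rels4 : allBlock (actQ.chkFix qWords) 1080 256 4 = true := by decide +kernel

theorem actQ_spid0 : allBlock (actQ.chkFix [qSpider]) 1080 256 0 = true := by decide +kernel

theorem actQ_spid1 : allBlock (actQ.chkFix [qSpider]) 1080 256 1 = true := by decide +kernel

theorem actQ_spid2 : allBlock (actQ.chkFix [qSpider]) 1080 256 2 = true := by decide +kernel

theorem actQ_spid3 : allBlock (actQ.chkFix [qSpider]) 1080 256 3 = true := by decide +kernel

theorem actQ_spid4 : allBlock (actQ.chkFix [qSpider]) 1080 256 4 = true := by decide +kernel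

theorem actQ_inv0 : allBlock actQ.chkInv 1080 2048 0 = true := by decide +kernel

theorem actQ_inv : ∀ i < 1080, actQ.chkInv i = true :=
  of_blocks (size := 2048) (b := 1) (by decide) (by decide) fun j hj => by
    interval_cases j
    · exact actQ_inv0

theorem actQ_rels : ∀ i < 1080, actQ.chkFix qWords i = true :=
  of_blocks (size := 256) (b := 5) (by decide) (by decide) fun j hj => by
    interval_cases j
    · exact actQ_rels0
    · exact actQ_rels1
    · exact actQ_rels2
    · exact actQ_rels3
    · exact actQ_rels4

theorem actQ_spid : ∀ i < 1080, actQ.chkFix [qSpider] i = true :=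
  of_blocks (size := 256) (b := 5) (by decide) (by decide) fun j hj => by
    interval_cases j
    · exact actQ_spid0
    · exact actQ_spid1
    · exact actQ_spid2
    · exact actQ_spid3
    · exact actQ_spid4

end Cfsg.Agent.Spor.Cos.Fi24Up
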