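import Cfsg.Agent.Lib.Spor.Cos.Fi24Up.Kp0Data
import Cfsg.Agent.Lib.Spor.Cos.Fi23.ActAData

/-! Checks of an orbit. -/

set_option autoImplicit false
set_option maxRecDepth 100000
set_option maxHeartbeats 4000000

namespace Cfsg.Agent.Spor.Cos.Fi24Up

theorem kp0_ents0 : allBlock (kp0.chkEnt Fi23.actA kp0W 0) 3240 1024 0 = true := by decide +kernel

theorem kp0_ents1 : allBlock (kp0.chkEnt Fi23.actA kp0W 0) 3240 1024 1 = true := by decide +kernel

theorem kp0_ents2 : allBlock (kp0.chkEnt Fi23.actA kp0W 0) 3240 1024 2 = true := by decide +kernel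

theorem kp0_ents3 : allBlock (kp0.chkEnt Fi23.actA kp0W 0) 3240 1024 3 = true := by decide +kernel

theorem kp0_ents : ∀ i < 3240, (kp0.chkEnt Fi23.actA kp0W 0) i = true :=
  of_blocks (size := 1024) (b := 4) (by decide) (by decide) fun j hj => by
    interval_cases j
    · exact kp0_ents0
    · exact kp0_ents1
    · exact kp0_ents2
    · exact kp0_ents3

theorem kp0_ok : kp0.Ok Fi23.actA kp0W 0 where
  letters := by decide +kernel
  pos := by decide +kernel
  ents := kp0_ents

end Cfsg.Agent.Spor.Cos.Fi24Up
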