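import Cfsg.Agent.Lib.Spor.Cos.Fi24Up.Sx1Data
import Cfsg.Agent.Lib.Spor.Cos.Fi23.ActAData

/-! Checks of an orbit. -/

set_option autoImplicit false
set_option maxRecDepth 100000
set_option maxHeartbeats 4000000

namespace Cfsg.Agent.Spor.Cos.Fi24Up

theorem sx1_ents0 : allBlock (sx1.chkEnt Fi23.actA sx1W 5) 351 1024 0 = true := by decide +kernel

theorem sx1_ents : ∀ i < 351, (sx1.chkEnt Fi23.actA sx1W 5) i = true :=
  of_blocks (size := 1024) (b := 1) (by decide) (by decide) fun j hj => by
    interval_cases j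
    · exact sx1_ents0

theorem sx1_ok : sx1.Ok Fi23.actA sx1W 5 where
  letters := by decide +kernel
  pos := by decide +kernel
  ents := sx1_ents

end Cfsg.Agent.Spor.Cos.Fi24Up
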