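import Cfsg.Agent.Lib.Spor.Cos.Fi24Up.Sx0Ok
import Cfsg.Agent.Lib.Spor.Cos.Fi24Up.Sx1Ok
import Cfsg.Agent.Lib.Spor.Cos.Fi24Up.Sx2Ok
import Cfsg.Agent.Lib.Spor.Cos.Fi24Up.Sx3Ok
import Cfsg.Agent.Lib.Spor.Cos.Fi24Up.Sx4Ok
import Cfsg.Agent.Lib.Spor.Cos.Fi24Up.Sx5Ok
import Cfsg.Agent.Lib.Spor.Cos.Fi24Up.Sx6Ok
import Cfsg.Agent.Lib.Spor.Cos.Fi24Up.Kp0Ok
import Cfsg.Agent.Lib.Spor.Cos.Fi24Up.Kp1Ok
import Cfsg.Agent.Lib.Spor.Cos.Fi24Up.Kp2Ok
import Cfsg.Agent.Lib.Spor.Cos.Fi24Up.Kp3Ok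
import Cfsg.Agent.Lib.Spor.Cos.Fi24Up.Kp4Ok
import Cfsg.Agent.Lib.Spor.Cos.Fi24Up.Kp5Ok
import Cfsg.Agent.Lib.Spor.Cos.Fi24Up.Kp6Ok
import Cfsg.Agent.Lib.Spor.Cos.Fi24Up.Kp7Ok
import Cfsg.Agent.Lib.Spor.Cos.Fi24Up.WalkData
import Cfsg.Agent.Lib.Spor.Cos.Fi24Up.Cx0Ok
import Cfsg.Agent.Lib.Spor.Cos.Fi23.Order
import Cfsg.Agent.Lib.Spor.Cos.Simple

/-! Orders of two subgroups of Fi23 from chains of orbits. -/

set_option autoImplicit false
set_option maxRecDepth 100000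
set_option maxHeartbeats 4000000

namespace Cfsg.Agent.Spor.Cos.Fi24Up

/-- Words in some words give a subgroup of theirs. -/
theorem val_le_of_flatten {G : Type*} [Group G] {g : ℕ → G} {ws vs : List (List ℕ)} (syms : List (List ℕ))
    (h : (vs == syms.map fun u => (u.map fun i => ws.getD i []).flatten) = true) : val g vs ≤ val g ws := by
  refine (Subgroup.closure_le _).2 ?_
  rintro _ ⟨w, hw, rfl⟩
  rw [beq_iff_eq.1 h, List.mem_map] at hw
  obtain ⟨u, -, rfl⟩ := hw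
  rw [SetLike.mem_coe, ev_flatten]
  refine list_prod_mem fun y hy => ?_
  rw [List.mem_map] at hy
  obtain ⟨v, hv, rfl⟩ := hy
  obtain ⟨i, -, rfl⟩ := List.mem_map.1 hv
  rcases Nat.lt_or_ge i ws.length with hi | hi
  · rw [List.getD_eq_getElem _ _ hi]
    exact mem_val (List.getElem_mem hi)
  · rw [List.getD_eq_getElem?_getD, List.getElem?_eq_none hi]
    exact one_mem _

theorem card_sx : 129123503308800 ≤ Nat.card (val Fi23.g sx0W) := by
  have := Fi23.finite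
  have p7 : LevR Fi23.g Fi23.actA Fi23.piA [] 1 [] := LevR.nil
  have p6 : LevR Fi23.g Fi23.actA Fi23.piA sx6W 2 [0] :=
    LevR.step Fi23.homA p7 sx6_ok (by decide +kernel) (by decide +kernel) (by decide +kernel)
  have p5 : LevR Fi23.g Fi23.actA Fi23.piA sx5W 6 [4, 0] :=
    LevR.step Fi23.homA p6 sx5_ok (by decide +kernel) (by decide +kernel) (by decide +kernel)
  have p4 : LevR Fi23.g Fi23.actA Fi23.piA sx4W 48 [2, 4, 0] :=
    LevR.step Fi23.homA p5 sx4_ok (by decide +kernel) (by decide +kernel) (by decide +kernel)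
  have p3 : LevR Fi23.g Fi23.actA Fi23.piA sx3W 5040 [1, 2, 4, 0] :=
    LevR.step Fi23.homA p4 sx3_ok (by decide +kernel) (by decide +kernel) (by decide +kernel)
  have p2 : LevR Fi23.g Fi23.actA Fi23.piA sx2W 13063680 [3, 1, 2, 4, 0] :=
    LevR.step Fi23.homA p3 sx2_ok (by decide +kernel) (by decide +kernel) (by decide +kernel)
  have p1 : LevR Fi23.g Fi23.actA Fi23.piA sx1W 4585351680 [5, 3, 1, 2, 4, 0] :=
    LevR.step Fi23.homA p2 sx1_ok (by decide +kernel) (by decide +kernel) (by decide +kernel)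
  have p0 : LevR Fi23.g Fi23.actA Fi23.piA sx0W 129123503308800 [9, 5, 3, 1, 2, 4, 0] :=
    LevR.step Fi23.homA p1 sx0_ok (by decide +kernel) (by decide +kernel) (by decide +kernel)
  exact p0.le

theorem card_kp : 29713078886400 ≤ Nat.card (val Fi23.g kp0W) := by
  have := Fi23.finite
  have p8 : LevR Fi23.g Fi23.actA Fi23.piA [] 1 [] := LevR.nil
  have p7 : LevR Fi23.g Fi23.actA Fi23.piA kp7W 2 [4] :=
    LevR.step Fi23.homA p8 kp7_ok (by decide +kernel) (by decide +kernel) (by decide +kernel)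
  have p6 : LevR Fi23.g Fi23.actA Fi23.piA kp6W 6 [3, 4] :=
    LevR.step Fi23.homA p7 kp6_ok (by decide +kernel) (by decide +kernel) (by decide +kernel)
  have p5 : LevR Fi23.g Fi23.actA Fi23.piA kp5W 24 [5, 3, 4] :=
    LevR.step Fi23.homA p6 kp5_ok (by decide +kernel) (by decide +kernel) (by decide +kernel)
  have p4 : LevR Fi23.g Fi23.actA Fi23.piA kp4W 240 [2, 5, 3, 4] :=
    LevR.step Fi23.homA p5 kp4_ok (by decide +kernel) (by decide +kernel) (by decide +kernel)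
  have p3 : LevR Fi23.g Fi23.actA Fi23.piA kp3W 51840 [75, 2, 5, 3, 4] :=
    LevR.step Fi23.homA p4 kp3_ok (by decide +kernel) (by decide +kernel) (by decide +kernel)
  have p2 : LevR Fi23.g Fi23.actA Fi23.piA kp2W 12597120 [559, 75, 2, 5, 3, 4] :=
    LevR.step Fi23.homA p3 kp2_ok (by decide +kernel) (by decide +kernel) (by decide +kernel)
  have p1 : LevR Fi23.g Fi23.actA Fi23.piA kp1W 9170703360 [1, 559, 75, 2, 5, 3, 4] :=
    LevR.step Fi23.homA p2 kp1_ok (by decide +kernel) (by decide +kernel) (by decide +kernel)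
  have p0 : LevR Fi23.g Fi23.actA Fi23.piA kp0W 29713078886400 [0, 1, 559, 75, 2, 5, 3, 4] :=
    LevR.step Fi23.homA p1 kp0_ok (by decide +kernel) (by decide +kernel) (by decide +kernel)
  exact p0.le

theorem sx_le : val Fi23.g sx0W ≤ val Fi23.g cx0W := val_le_of_flatten sxSyms (by decide +kernel)

end Cfsg.Agent.Spor.Cos.Fi24Up
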