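import Cfsg.Agent.Lib.Spor.Cos.Fi24Up.Ck0Data
import Cfsg.Agent.Lib.Spor.Cos.Fi24Up.Ck1Data
import Cfsg.Agent.Lib.Spor.Cos.Act

/-! The listed orbits hold all points. -/

set_option autoImplicit false
set_option maxRecDepth 100000
set_option maxHeartbeats 4000000

namespace Cfsg.Agent.Spor.Cos.Fi24Up

/-- A point in one of the orbits. -/
noncomputable def ckMem (p : ℕ) : Bool := ck0.mem p || ck1.mem p

theorem ck_all0 : allBlock ckMem 31671 4096 0 = true := by decide +kernel

theorem ck_all1 : allBlock ckMem 31671 4096 1 = true := by decide +kernel

theorem ck_all2 : allBlock ckMem 31671 4096 2 = true := by decide +kernel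

theorem ck_all3 : allBlock ckMem 31671 4096 3 = true := by decide +kernel

theorem ck_all4 : allBlock ckMem 31671 4096 4 = true := by decide +kernel

theorem ck_all5 : allBlock ckMem 31671 4096 5 = true := by decide +kernel

theorem ck_all6 : allBlock ckMem 31671 4096 6 = true := by decide +kernel

theorem ck_all7 : allBlock ckMem 31671 4096 7 = true := by decide +kernel

theorem ck_all : ∀ i < 31671, ckMem i = true :=
  of_blocks (size := 4096) (b := 8) (by decide) (by decide) fun j hj => by
    interval_cases j
    · exact ck_all0
    · exact ck_all1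
    · exact ck_all2
    · exact ck_all3
    · exact ck_all4
    · exact ck_all5
    · exact ck_all6
    · exact ck_all7

end Cfsg.Agent.Spor.Cos.Fi24Up
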