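import Cfsg.Agent.Lib.Spor.Cos.Fi24Up.Cx1Data
import Cfsg.Agent.Lib.Spor.Cos.Fi23.ActAData

/-! Checks of an orbit. -/

set_option autoImplicit false
set_option maxRecDepth 100000
set_option maxHeartbeats 4000000

namespace Cfsg.Agent.Spor.Cos.Fi24Up

theorem cx1_ents0 : allBlock (cx1.chkEnt Fi23.actA cx1W 31662) 28160 1024 0 = true := by decide +kernel

theorem cx1_ents1 : allBlock (cx1.chkEnt Fi23.actA cx1W 31662) 28160 1024 1 = true := by decide +kernel

theorem cx1_ents2 : allBlock (cx1.chkEnt Fi23.actA cx1W 31662) 28160 1024 2 = true := by decide +kernel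

theorem cx1_ents3 : allBlock (cx1.chkEnt Fi23.actA cx1W 31662) 28160 1024 3 = true := by decide +kernel

theorem cx1_ents4 : allBlock (cx1.chkEnt Fi23.actA cx1W 31662) 28160 1024 4 = true := by decide +kernel

theorem cx1_ents5 : allBlock (cx1.chkEnt Fi23.actA cx1W 31662) 28160 1024 5 = true := by decide +kernel

theorem cx1_ents6 : allBlock (cx1.chkEnt Fi23.actA cx1W 31662) 28160 1024 6 = true := by decide +kernel

theorem cx1_ents7 : allBlock (cx1.chkEnt Fi23.actA cx1W 31662) 28160 1024 7 = true := by decide +kernel

theorem cx1_ents8 : allBlock (cx1.chkEnt Fi23.actA cx1W 31662) 28160 1024 8 = true := by decide +kernel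

theorem cx1_ents9 : allBlock (cx1.chkEnt Fi23.actA cx1W 31662) 28160 1024 9 = true := by decide +kernel

theorem cx1_ents10 : allBlock (cx1.chkEnt Fi23.actA cx1W 31662) 28160 1024 10 = true := by decide +kernel

theorem cx1_ents11 : allBlock (cx1.chkEnt Fi23.actA cx1W 31662) 28160 1024 11 = true := by decide +kernel

theorem cx1_ents12 : allBlock (cx1.chkEnt Fi23.actA cx1W 31662) 28160 1024 12 = true := by decide +kernel

theorem cx1_ents13 : allBlock (cx1.chkEnt Fi23.actA cx1W 31662) 28160 1024 13 = true := by decide +kernel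

theorem cx1_ents14 : allBlock (cx1.chkEnt Fi23.actA cx1W 31662) 28160 1024 14 = true := by decide +kernel

theorem cx1_ents15 : allBlock (cx1.chkEnt Fi23.actA cx1W 31662) 28160 1024 15 = true := by decide +kernel

theorem cx1_ents16 : allBlock (cx1.chkEnt Fi23.actA cx1W 31662) 28160 1024 16 = true := by decide +kernel

theorem cx1_ents17 : allBlock (cx1.chkEnt Fi23.actA cx1W 31662) 28160 1024 17 = true := by decide +kernel

theorem cx1_ents18 : allBlock (cx1.chkEnt Fi23.actA cx1W 31662) 28160 1024 18 = true := by decide +kernel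

theorem cx1_ents19 : allBlock (cx1.chkEnt Fi23.actA cx1W 31662) 28160 1024 19 = true := by decide +kernel

theorem cx1_ents20 : allBlock (cx1.chkEnt Fi23.actA cx1W 31662) 28160 1024 20 = true := by decide +kernel

theorem cx1_ents21 : allBlock (cx1.chkEnt Fi23.actA cx1W 31662) 28160 1024 21 = true := by decide +kernel

theorem cx1_ents22 : allBlock (cx1.chkEnt Fi23.actA cx1W 31662) 28160 1024 22 = true := by decide +kernel

theorem cx1_ents23 : allBlock (cx1.chkEnt Fi23.actA cx1W 31662) 28160 1024 23 = true := by decide +kernel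

theorem cx1_ents24 : allBlock (cx1.chkEnt Fi23.actA cx1W 31662) 28160 1024 24 = true := by decide +kernel

theorem cx1_ents25 : allBlock (cx1.chkEnt Fi23.actA cx1W 31662) 28160 1024 25 = true := by decide +kernel

theorem cx1_ents26 : allBlock (cx1.chkEnt Fi23.actA cx1W 31662) 28160 1024 26 = true := by decide +kernel

theorem cx1_ents27 : allBlock (cx1.chkEnt Fi23.actA cx1W 31662) 28160 1024 27 = true := by decide +kernel

theorem cx1_ents : ∀ i < 28160, (cx1.chkEnt Fi23.actA cx1W 31662) i = true :=
  of_blocks (size := 1024) (b := 28) (by decide) (by decide) fun j hj => by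
    interval_cases j
    · exact cx1_ents0
    · exact cx1_ents1
    · exact cx1_ents2
    · exact cx1_ents3
    · exact cx1_ents4
    · exact cx1_ents5
    · exact cx1_ents6
    · exact cx1_ents7
    · exact cx1_ents8
    · exact cx1_ents9
    · exact cx1_ents10
    · exact cx1_ents11
    · exact cx1_ents12
    · exact cx1_ents13
    · exact cx1_ents14
    · exact cx1_ents15
    · exact cx1_ents16
    · exact cx1_ents17
    · exact cx1_ents18
    · exact cx1_ents19
    · exact cx1_ents20
    · exact cx1_ents21
    · exact cx1_ents22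
    · exact cx1_ents23
    · exact cx1_ents24
    · exact cx1_ents25
    · exact cx1_ents26
    · exact cx1_ents27

theorem cx1_ok : cx1.Ok Fi23.actA cx1W 31662 where
  letters := by decide +kernel
  pos := by decide +kernel
  ents := cx1_ents

end Cfsg.Agent.Spor.Cos.Fi24Up
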