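import Cfsg.Agent.Lib.Spor.Cos.Fi24Up.Cx2Data
import Cfsg.Agent.Lib.Spor.Cos.Fi23.ActAData

/-! Checks of an orbit. -/

set_option autoImplicit false
set_option maxRecDepth 100000
set_option maxHeartbeats 4000000

namespace Cfsg.Agent.Spor.Cos.Fi24Up

theorem cx2_ents0 : allBlock (cx2.chkEnt Fi23.actA cx2W 31503) 3510 1024 0 = true := by decide +kernel

theorem cx2_ents1 : allBlock (cx2.chkEnt Fi23.actA cx2W 31503) 3510 1024 1 = true := by decide +kernel

theorem cx2_ents2 : allBlock (cx2.chkEnt Fi23.actA cx2W 31503) 3510 1024 2 = true := by decide +kernel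

theorem cx2_ents3 : allBlock (cx2.chkEnt Fi23.actA cx2W 31503) 3510 1024 3 = true := by decide +kernel

theorem cx2_ents : ∀ i < 3510, (cx2.chkEnt Fi23.actA cx2W 31503) i = true :=
  of_blocks (size := 1024) (b := 4) (by decide) (by decide) fun j hj => by
    interval_cases j
    · exact cx2_ents0
    · exact cx2_ents1
    · exact cx2_ents2
    · exact cx2_ents3

theorem cx2_ok : cx2.Ok Fi23.actA cx2W 31503 where
  letters := by decide +kernel
  pos := by decide +kernel
  ents := cx2_ents

end Cfsg.Agent.Spor.Cos.Fi24Up
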