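import Cfsg.Agent.Lib.Spor.Cos.Fi24Up.Cx0Data
import Cfsg.Agent.Lib.Spor.Cos.Fi24Up.Cx1Data
import Cfsg.Agent.Lib.Spor.Cos.Fi24Up.Cx2Data
import Cfsg.Agent.Lib.Spor.Cos.Act

/-! The listed orbits hold all points. -/

set_option autoImplicit false
set_option maxRecDepth 100000
set_option maxHeartbeats 4000000

namespace Cfsg.Agent.Spor.Cos.Fi24Up

/-- A point in one of the orbits. -/
noncomputable def cxMem (p : ℕ) : Bool := cx0.mem p || cx1.mem p || cx2.mem p

theorem cx_all0 : allBlock cxMem 31671 4096 0 = true := by decide +kernel

theorem cx_all1 : allBlock cxMem 31671 4096 1 = true := by decide +kernel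

theorem cx_all2 : allBlock cxMem 31671 4096 2 = true := by decide +kernel

theorem cx_all3 : allBlock cxMem 31671 4096 3 = true := by decide +kernel

theorem cx_all4 : allBlock cxMem 31671 4096 4 = true := by decide +kernel

theorem cx_all5 : allBlock cxMem 31671 4096 5 = true := by decide +kernel

theorem cx_all6 : allBlock cxMem 31671 4096 6 = true := by decide +kernel

theorem cx_all7 : allBlock cxMem 31671 4096 7 = true := by decide +kernel

theorem cx_all : ∀ i < 31671, cxMem i = true :=
  of_blocks (size := 4096) (b := 8) (by decide) (by decide) fun j hj => by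
    interval_cases j
    · exact cx_all0
    · exact cx_all1
    · exact cx_all2
    · exact cx_all3
    · exact cx_all4
    · exact cx_all5
    · exact cx_all6
    · exact cx_all7

end Cfsg.Agent.Spor.Cos.Fi24Up
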