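import Cfsg.Agent.Lib.Spor.Cos.Fi24Up.Spider
import Cfsg.Agent.Lib.Spor.Cos.Fi23.Order

/-!
In the presented Fi24 the generators other than k give a quotient of Fi23 times a group of order two.
-/

set_option autoImplicit false
set_option maxRecDepth 100000
set_option maxHeartbeats 4000000

open Cfsg.Spor

namespace Cfsg.Agent.Spor.Cos.Fi24Up

/-- A generator of Fi23 as the product of one of Fi24 with l. -/
noncomputable def sigma (s : ℕ) : Spor.Fi24 := if s < 10 then g (s + 2) * g 0 else 1

theorem g_comm {s t : ℕ} (h : derivedOk 12 words [s, t, s, t] = true) : g s * g t = g t * g s := by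
  have e := ev_derived (fun u _ => g_sq u) g_words h
  have hi : ∀ u, (g u)⁻¹ = g u := fun u => inv_eq_of_mul_eq_one_left (g_sq u)
  simp only [ev, mul_one, ← mul_assoc] at e
  rw [mul_assoc (g s * g t)] at e
  rw [eq_inv_of_mul_eq_one_left e, mul_inv_rev, hi, hi]

theorem g_zero_comm {s : ℕ} (h2 : 2 ≤ s) (hs : s < 12) : g 0 * g s = g s * g 0 := by
  interval_cases s <;> exact g_comm (by decide +kernel)

theorem sigma_sq (s : ℕ) : sigma s * sigma s = 1 := by
  unfold sigma
  split_ifs with h
  · rw [mul_assoc, ← mul_assoc (g 0), g_zero_comm (by omega) (by omega), mul_assoc, g_sq, mul_one, g_sq]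
  · exact one_mul _

/-- A word of Fi23 in the letters of Fi24. -/
def up (w : List ℕ) : List ℕ := w.map (· + 2)

theorem ev_sigma : ∀ w : List ℕ, (∀ s ∈ w, s < 10) → ev sigma w = ev g (up w) * g 0 ^ w.length
  | [], _ => by simp [ev, up]
  | s :: w, h => by
    have hs := h s (List.mem_cons_self ..)
    have hc : Commute (g 0) (ev g (up w)) := by
      have : ∀ v : List ℕ, (∀ t ∈ v, 2 ≤ t ∧ t < 12) → Commute (g 0) (ev g v) := by
        intro v
        induction v with
        | nil => exact fun _ => Commute.one_right _
        | cons t v ih =>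
          exact fun hv => (Commute.mul_right (g_zero_comm (hv t (by simp)).1 (hv t (by simp)).2)
            (ih fun u hu => hv u (by simp [hu])))
      refine this _ fun t ht => ?_
      obtain ⟨u, hu, rfl⟩ := List.mem_map.1 ht
      have := h u (List.mem_cons_of_mem _ hu)
      omega
    show sigma s * ev sigma w = g (s + 2) * ev g (up w) * g 0 ^ (w.length + 1)
    rw [ev_sigma w fun t ht => h t (List.mem_cons_of_mem _ ht), sigma, if_pos hs, pow_succ']
    simp only [← mul_assoc]
    rw [mul_assoc (g (s + 2)) (g 0), hc.eq, ← mul_assoc]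

theorem l_pow_even {n : ℕ} (h : n % 2 = 0) : g 0 ^ n = 1 := by
  rw [← Nat.div_add_mod n 2, h, Nat.add_zero, pow_mul, sq, g_sq, one_pow]

/-- A word followed by l if it has odd length. -/
def evenUp (w : List ℕ) : List ℕ := bif Nat.beq (w.length % 2) 0 then up w else up w ++ [0]

theorem ev_sigma_words {w : List ℕ} (hw : w ∈ Fi23.words) : ev sigma w = 1 := by
  have hl : Act.lettersOk 10 Fi23.words = true := by decide +kernel
  rw [ev_sigma w (Act.lt_of_lettersOk hl hw)]
  have hd : (Fi23.words.all fun r =>
      derivedOk 12 (qSpider.map (fun i => subLetters.getD i 12) :: words) (evenUp r)) = true := by decide +kernel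
  have hk : ∀ r ∈ qSpider.map (fun i => subLetters.getD i 12) :: words, ev g r = 1 := fun r hr => by
    rcases List.mem_cons.1 hr with rfl | hr
    · exact spider_eq_one
    · exact g_words r hr
  have := ev_derived (fun s _ => g_sq s) hk (List.all_eq_true.1 hd w hw)
  rcases Nat.mod_two_eq_zero_or_one w.length with h | h
  · rw [evenUp, h] at this
    simpa [l_pow_even h] using this
  · rw [evenUp, h] at this
    simp only [show Nat.beq 1 0 = false from rfl, cond_false, ev_append, ev, mul_one] at this
    rwa [← Nat.div_add_mod w.length 2, h, pow_succ, l_pow_even (by omega), one_mul]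

theorem exists_phi : ∃ φ : Spor.Fi23 →* Spor.Fi24, ∀ s, φ (Fi23.g s) = sigma s :=
  Fi23.pres.exists_hom sigma sigma_sq (fun _ hw => ev_sigma_words hw) fun s hs => by
    have : 10 ≤ s := hs
    simp [sigma, Nat.not_lt.2 this]

/-- The homomorphism from Fi23. -/
noncomputable def phi : Spor.Fi23 →* Spor.Fi24 := exists_phi.choose

theorem phi_g (s : ℕ) : phi (Fi23.g s) = sigma s := exists_phi.choose_spec s

theorem phi_ev (w : List ℕ) : phi (ev Fi23.g w) = ev sigma w := by
  rw [ev_map]
  exact congrArg (ev · w) (funext phi_g)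

theorem l_comm_phi (y : Spor.Fi23) : Commute (g 0) (phi y) := by
  have hy : y ∈ Subgroup.closure {x | ∃ s < 10, Fi23.g s = x} := Fi23.g_gen ▸ Subgroup.mem_top y
  induction hy using Subgroup.closure_induction with
  | mem x hx =>
    obtain ⟨s, hs, rfl⟩ := hx
    rw [phi_g, sigma, if_pos hs]
    exact Commute.mul_right (g_zero_comm (by omega) (by omega)) (Commute.refl _)
  | one => rw [map_one]; exact Commute.one_right _
  | mul a b _ _ ha hb => rw [map_mul]; exact ha.mul_right hb
  | inv a _ ha => rw [map_inv]; exact ha.inv_right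

/-- The letters other than k. -/
def hLetters : List ℕ := [0, 2, 3, 4, 5, 6, 7, 8, 9, 10, 11]

/-- A word in the letters other than k. -/
def okH (w : List ℕ) : Bool := w.all fun s => hLetters.contains s

/-- The word of Fi23 below a word in the letters other than k. -/
def down (w : List ℕ) : List ℕ := (w.filter fun s => !Nat.beq s 0).map (· - 2)

theorem lt_of_okH {w : List ℕ} (h : okH w = true) {s : ℕ} (hs : s ∈ w) : s = 0 ∨ 2 ≤ s ∧ s < 12 := by
  have := List.contains_iff_mem.1 (List.all_eq_true.1 h s hs)
  simp only [hLetters, List.mem_cons, List.not_mem_nil, or_false] at this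
  omega

theorem ev_eq : ∀ w : List ℕ, okH w = true → ev g w = phi (ev Fi23.g (down w)) * g 0 ^ w.length
  | [], _ => by simp [ev, down]
  | s :: w, h => by
    have hw : okH w = true := by
      simp only [okH, List.all_cons, Bool.and_eq_true] at h
      exact h.2
    show g s * ev g w = _
    rw [ev_eq w hw]
    rcases lt_of_okH h (List.mem_cons_self ..) with rfl | ⟨h2, h12⟩
    · rw [show down (0 :: w) = down w from rfl, List.length_cons, pow_succ', ← mul_assoc, ← mul_assoc,
        (l_comm_phi _).eq]
    · have e : down (s :: w) = (s - 2) :: down w := by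
        simp only [down]
        rw [List.filter_cons_of_pos (by
          simp only [Bool.not_eq_true', ← Bool.not_eq_true, Nat.beq_eq]; omega), List.map_cons]
      rw [e, ev, map_mul, phi_g, sigma, if_pos (by omega), Nat.sub_add_cancel h2, List.length_cons, pow_succ',
        mul_assoc, mul_assoc, ← mul_assoc (phi _) (g 0), ← (l_comm_phi _).eq, ← mul_assoc (g 0), ← mul_assoc (g 0),
        g_sq, one_mul]

/-- A word of even length in the letters other than k whose image in Fi23 is trivial. -/
noncomputable def isOne (w : List ℕ) : Bool :=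
  okH w && Nat.beq (w.length % 2) 0 &&
    chkPow Fi23.actA [0, 1, 2, 3, 4, 5, 6, 8, 9] 1 (down w)

theorem down_lt {w : List ℕ} (h : okH w = true) : ∀ s ∈ down w, s < 10 := by
  intro s hs
  obtain ⟨t, ht, rfl⟩ := List.mem_map.1 hs
  obtain ⟨ht, -⟩ := List.mem_filter.1 ht
  rcases lt_of_okH h ht with rfl | ⟨h2, h12⟩ <;> omega

theorem eq_one_of_isOne {w : List ℕ} (h : isOne w = true) : ev g w = 1 := by
  simp only [isOne, Bool.and_eq_true, Nat.beq_eq] at h
  obtain ⟨⟨hl, he⟩, hc⟩ := h
  have := pow_eq_one Fi23.homA Fi23.det (down_lt hl) hc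
  rw [pow_one] at this
  rw [ev_eq w hl, this, map_one, one_mul, l_pow_even he]

end Cfsg.Agent.Spor.Cos.Fi24Up
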