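import Cfsg.Agent.Lib.Spor.Cos.Fi24Up.T1080Part0

/-! A checked coset enumeration. -/

set_option autoImplicit false
set_option maxRecDepth 100000
set_option maxHeartbeats 4000000

namespace Cfsg.Agent.Spor.Cos.Fi24Up

theorem t1080_def0 : allBlock t1080.chkDef 2546 2048 0 = true := by decide +kernel

theorem t1080_def1 : allBlock t1080.chkDef 2546 2048 1 = true := by decide +kernel

theorem t1080_defs : ∀ i, i + 1 < t1080.M → t1080.chkDef i = true := by
  intro i hi
  change i + 1 < 2547 at hi
  refine of_allBlock (n := 2546) (size := 2048) (by decide) (fun j hj => ?_) (by omega)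
  have hj' : j < 2 := by omega
  interval_cases j
  · exact t1080_def0
  · exact t1080_def1

theorem t1080_facts : ∀ i, t1080.M ≤ i + 1 → i < t1080.nF → ∃ J, t1080.chkFact i J = true :=
  t1080.facts_of_covers (t1080.covers_of_part _ _ _ t1080_part0) rfl rfl

theorem t1080_final0 : allBlock t1080.chkFinal 10800 2048 0 = true := by decide +kernel

theorem t1080_final1 : allBlock t1080.chkFinal 10800 2048 1 = true := by decide +kernel

theorem t1080_final2 : allBlock t1080.chkFinal 10800 2048 2 = true := by decide +kernel

theorem t1080_final3 : allBlock t1080.chkFinal 10800 2048 3 = true := by decide +kernel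

theorem t1080_final4 : allBlock t1080.chkFinal 10800 2048 4 = true := by decide +kernel

theorem t1080_final5 : allBlock t1080.chkFinal 10800 2048 5 = true := by decide +kernel

theorem t1080_checks : t1080.Checks where
  pos := by decide +kernel
  defs := t1080_defs
  facts := t1080_facts
  final := by
    intro k hk
    change k < 1080 * 10 at hk
    refine of_allBlock (n := 10800) (size := 2048) (by decide) (fun j hj => ?_) (by omega)
    have hj' : j < 6 := by omega
    interval_cases j
    · exact t1080_final0
    · exact t1080_final1
    · exact t1080_final2
    · exact t1080_final3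
    · exact t1080_final4
    · exact t1080_final5

theorem t1080_derived : t1080.rels.all (derivedOk t1080.n t1080Base) = true := by decide +kernel

end Cfsg.Agent.Spor.Cos.Fi24Up
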