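import Cfsg.Agent.Lib.Spor.Cos.Fi24Up.Embed
import Cfsg.Agent.Lib.Spor.Cos.Fi24Up.T1080Cert
import Cfsg.Agent.Lib.Spor.Cos.Fi24Up.WalkData

/-!
Identities in the presented Fi24 between k, klak and the subgroup of the other generators: closed paths in an
enumeration of the subdiagram, and one path along the relator of length 238.
-/

set_option autoImplicit false
set_option maxRecDepth 100000
set_option maxHeartbeats 4000000

open Cfsg.Spor

namespace Cfsg.Agent.Spor.Cos.Fi24Up

/-- The subgroup generated by the letters other than k. -/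
noncomputable def HH : Subgroup Spor.Fi24 := val g (singles hLetters)

theorem mem_HH {w : List ℕ} (h : okH w = true) : ev g w ∈ HH :=
  ev_mem w fun _ hs => mem_single (List.contains_iff_mem.1 (List.all_eq_true.1 h _ hs))

/-- Translate a word of the subdiagram. -/
def sub (w : List ℕ) : List ℕ := w.map fun i => subLetters.getD i 12

theorem loop_mem_HH {wR : List ℕ × ℕ} (h : wR ∈ loops) : ev g (sub wR.1) ∈ HH := by
  have hc : (loops.all fun x => t1080.walk t1080.nF 0 x.1.length x.2 0 x.1) = true := by decide +kernel
  have hw := List.all_eq_true.1 hc wR h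
  have hi : ∀ s < t1080.n, g (subLetters.getD s 12) * g (subLetters.getD s 12) = 1 := fun s _ => g_sq _
  have hbase : ∀ w ∈ t1080Base, ev g (w.map fun i => subLetters.getD i 12) = 1 :=
    hbase_of g_sq g_words (n := 12) (by decide +kernel)
  have hrels : ∀ r ∈ t1080.rels, ev (fun i => g (subLetters.getD i 12)) r = 1 := fun r hr =>
    ev_derived hi (fun x hx => (ev_reletter subLetters 12 x).trans (hbase x hx))
      (List.all_eq_true.1 t1080_derived r hr)
  have hsub : ∀ v ∈ t1080.sub, ev (fun i => g (subLetters.getD i 12)) v ∈ HH := fun v hv => by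
    have hd : (t1080.sub.all fun u => okH (sub u)) = true := by decide +kernel
    rw [ev_reletter]
    exact mem_HH (List.all_eq_true.1 hd v hv)
  have := t1080.loop_mem (g := fun i => g (subLetters.getD i 12)) hi t1080_checks.defs t1080_checks.facts hrels hsub hw
  rwa [ev_reletter] at this

/-- The word klak. -/
def xWord : List ℕ := [1, 0, 2, 1]

/-- A word of the listed closed paths. -/
def isLoop (w : List ℕ) : Bool := loops.any fun x => sub x.1 == w

theorem mem_of_isLoop {w : List ℕ} (h : isLoop w = true) : ev g w ∈ HH := by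
  obtain ⟨x, hx, e⟩ := List.any_eq_true.1 h
  rw [← beq_iff_eq.1 e]
  exact loop_mem_HH hx

theorem ev_rev (w : List ℕ) : ev g w.reverse = (ev g w)⁻¹ :=
  ev_reverse (n := w.sum + 1) (fun s _ => g_sq s) w fun _ hs => Nat.lt_succ_of_le (List.le_sum_of_mem hs)

theorem g_inv (s : ℕ) : (g s)⁻¹ = g s := inv_eq_of_mul_eq_one_left (g_sq s)

/-- The letters commuting with k. -/
def kLetters : List ℕ := [3, 4, 5, 6, 7, 8, 9, 10, 11]

theorem comm_k {w : List ℕ} (h : (w.all fun s => kLetters.contains s) = true) :
    Commute (g 1) (ev g w) := by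
  induction w with
  | nil => exact Commute.one_right _
  | cons s w ih =>
    simp only [List.all_cons, Bool.and_eq_true] at h
    refine Commute.mul_right ?_ (ih h.2)
    have := List.contains_iff_mem.1 h.1
    simp only [kLetters, List.mem_cons, List.not_mem_nil, or_false] at this
    rcases this with rfl | rfl | rfl | rfl | rfl | rfl | rfl | rfl | rfl <;>
      exact g_comm (by decide +kernel)

theorem okH_of_k {w : List ℕ} (h : (w.all fun s => kLetters.contains s) = true) : okH w = true := by
  refine List.all_eq_true.2 fun s hs => ?_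
  have := List.contains_iff_mem.1 (List.all_eq_true.1 h s hs)
  simp only [kLetters, hLetters, List.mem_cons, List.not_mem_nil, or_false, List.contains_eq_mem,
    decide_eq_true_eq] at this ⊢
  omega

/-- The subgroup of the elements whose conjugate by an element stays inside. -/
noncomputable def fixer (r : Spor.Fi24) : Subgroup Spor.Fi24 := HH ⊓ HH.comap (MulAut.conj r).toMonoidHom

theorem mem_fixer {r y : Spor.Fi24} : y ∈ fixer r ↔ y ∈ HH ∧ r * y * r⁻¹ ∈ HH := Iff.rfl

theorem letters_fix_k {w : List ℕ} (h : (w.all fun s => kLetters.contains s) = true) : ev g w ∈ fixer (g 1) := by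
  refine mem_fixer.2 ⟨mem_HH (okH_of_k h), ?_⟩
  rw [(comm_k h).eq, mul_inv_cancel_right]
  exact mem_HH (okH_of_k h)

theorem letters_fix_x {s : ℕ} (hs : s ∈ [0, 2, 4, 5, 6, 7, 8, 9, 10, 11]) : g s ∈ fixer (ev g xWord) := by
  have h1 : g s ∈ HH := by
    have : hLetters.contains s = true := by
      simp only [List.mem_cons, List.not_mem_nil, or_false] at hs
      rcases hs with rfl | rfl | rfl | rfl | rfl | rfl | rfl | rfl | rfl | rfl <;> rfl
    exact mem_single (List.contains_iff_mem.1 this)
  refine mem_fixer.2 ⟨h1, ?_⟩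
  have key : ev g xWord * g s * (ev g xWord)⁻¹ = ev g (xWord ++ [s] ++ xWord.reverse) := by
    rw [ev_append, ev_append, ev_rev]
    simp [ev]
  rw [key]
  simp only [List.mem_cons, List.not_mem_nil, or_false] at hs
  rcases hs with rfl | rfl | rfl | rfl | rfl | rfl | rfl | rfl | rfl | rfl
  iterate 6 exact mem_of_isLoop (by decide +kernel)
  case _ =>
    rw [← key]
    have c : Commute (g 8) (ev g xWord) :=
      Commute.mul_right (g_comm (s := 8) (t := 1) (by decide +kernel))
        (Commute.mul_right (g_comm (s := 8) (t := 0) (by decide +kernel))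
          (Commute.mul_right (g_comm (s := 8) (t := 2) (by decide +kernel))
            (Commute.mul_right (g_comm (s := 8) (t := 1) (by decide +kernel)) (Commute.one_right _))))
    rw [← c.eq, mul_inv_cancel_right]
    exact h1
  case _ =>
    rw [← key]
    have c : Commute (g 9) (ev g xWord) :=
      Commute.mul_right (g_comm (s := 9) (t := 1) (by decide +kernel))
        (Commute.mul_right (g_comm (s := 9) (t := 0) (by decide +kernel))
          (Commute.mul_right (g_comm (s := 9) (t := 2) (by decide +kernel))
            (Commute.mul_right (g_comm (s := 9) (t := 1) (by decide +kernel)) (Commute.one_right _))))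
    rw [← c.eq, mul_inv_cancel_right]
    exact h1
  all_goals exact mem_of_isLoop (by decide +kernel)

theorem extraX_fix : ev g extraX ∈ fixer (ev g xWord) := by
  refine mem_fixer.2 ⟨mem_HH (by decide +kernel), ?_⟩
  rw [← ev_rev, ← ev_append, ← ev_append]
  exact mem_of_isLoop (by decide +kernel)

/-- One decomposition at a letter k, and the next state. -/
noncomputable def chkSteps : List ℕ → List (List ℕ × List ℕ × List ℕ) → Bool
  | _, [] => true
  | h, (seg, k1, k2) :: L =>
    okH seg && (k1.all fun s => kLetters.contains s) && (k2.all fun s => kLetters.contains s) &&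
      isOne ((h ++ seg) ++ k2.reverse ++ rho.reverse ++ k1.reverse) && chkSteps (rho ++ kap ++ k2) L

/-- The word of the path. -/
def pathWord : List (List ℕ × List ℕ × List ℕ) → List ℕ
  | [] => pathLast
  | (seg, _, _) :: L => seg ++ 1 :: pathWord L

/-- The state at the end of the path. -/
def pathEnd : List ℕ → List (List ℕ × List ℕ × List ℕ) → List ℕ
  | h, [] => h ++ pathLast
  | _, (_, _, k2) :: L => pathEnd (rho ++ kap ++ k2) L

theorem rho_step : g 1 * ev g rho * g 1 * (ev g kap)⁻¹ * (ev g rho)⁻¹ * g 1 ∈ HH := by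
  have h : isLoop ([1] ++ rho ++ [1] ++ kap.reverse ++ rho.reverse ++ [1]) = true := by decide +kernel
  have := mem_of_isLoop h
  simpa only [ev_append, ev_rev, ev, mul_one, mul_assoc] using this

theorem path_mem : ∀ (L : List (List ℕ × List ℕ × List ℕ)) (h : List ℕ), chkSteps h L = true →
    g 1 * ev g h * ev g (pathWord L) * (g 1 * ev g (pathEnd h L))⁻¹ ∈ HH
  | [], h, _ => by
    simp only [pathWord, pathEnd, ev_append, mul_inv_rev]
    group
    exact HH.one_mem
  | (seg, k1, k2) :: L, h, hc => by
    simp only [chkSteps, Bool.and_eq_true] at hc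
    obtain ⟨⟨⟨⟨hs, h1⟩, h2⟩, he⟩, hrest⟩ := hc
    have ih := path_mem L _ hrest
    have e0 := eq_one_of_isOne he
    simp only [ev_append, ev_rev] at e0
    have e : ev g h * ev g seg = ev g k1 * ev g rho * ev g k2 := by
      calc ev g h * ev g seg = (ev g h * ev g seg * (ev g k2)⁻¹ * (ev g rho)⁻¹ * (ev g k1)⁻¹) *
            (ev g k1 * ev g rho * ev g k2) := by group
        _ = _ := by rw [e0, one_mul]
    have key : g 1 * ev g h * ev g seg * g 1 * (g 1 * ev g (rho ++ kap ++ k2))⁻¹ ∈ HH := by
      have c1 := (comm_k h1).eq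
      have c2 := (comm_k h2).eq
      have : g 1 * ev g h * ev g seg * g 1 * (g 1 * ev g (rho ++ kap ++ k2))⁻¹ =
          ev g k1 * (g 1 * ev g rho * g 1 * (ev g kap)⁻¹ * (ev g rho)⁻¹ * g 1) := by
        rw [mul_assoc (g 1) (ev g h), e]
        simp only [ev_append, mul_inv_rev, g_inv]
        calc g 1 * (ev g k1 * ev g rho * ev g k2) * g 1 * ((ev g k2)⁻¹ * ((ev g kap)⁻¹ * (ev g rho)⁻¹) * g 1)
            = (g 1 * ev g k1) * ev g rho * ((ev g k2 * g 1) * (ev g k2)⁻¹) * ((ev g kap)⁻¹ * (ev g rho)⁻¹) *
              g 1 := by group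
          _ = (ev g k1 * g 1) * ev g rho * ((g 1 * ev g k2) * (ev g k2)⁻¹) * ((ev g kap)⁻¹ * (ev g rho)⁻¹) *
              g 1 := by rw [c1, c2]
          _ = ev g k1 * (g 1 * ev g rho * g 1 * (ev g kap)⁻¹ * (ev g rho)⁻¹ * g 1) := by group
      rw [this]
      exact HH.mul_mem (mem_HH (okH_of_k h1)) rho_step
    have := HH.mul_mem key ih
    simp only [pathWord, pathEnd, ev_append, ev] at this ⊢
    convert this using 1
    group

theorem extraK_fix : ev g extraK ∈ fixer (g 1) := by
  refine mem_fixer.2 ⟨mem_HH (by decide +kernel), ?_⟩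
  have h := path_mem pathSteps pathStart (by decide +kernel)
  have hd : derivedOk 12 words (pathWord pathSteps) = true := by decide +kernel
  rw [ev_derived (fun s _ => g_sq s) g_words hd, mul_one] at h
  have e : extraK = pathEnd pathStart pathSteps ++ pathStart.reverse := by decide +kernel
  rw [e, ev_append, ev_rev]
  simpa only [mul_inv_rev, inv_inv, mul_assoc] using HH.inv_mem h

end Cfsg.Agent.Spor.Cos.Fi24Up
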