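import Cfsg.Agent.Lib.Spor.Cos.Orb

/-! Data of an orbit. -/

set_option autoImplicit false
set_option maxRecDepth 100000
set_option maxHeartbeats 4000000

namespace Cfsg.Agent.Spor.Cos.Fi24Up


/-- The table kp4E. -/
def kp4E : Tab := ⟨(.leaf 0x60003023300060002000500040002023100000002023000060001023200040001003800020001000400060000012a000300000003000000000002), 48, 4⟩

def kp4PB0 : Bst := (.node 30 (.node 15 (.node 7 (.node 3 (.node 1 (.leaf 0x800030001000000000000) (.node 2 (.leaf 0) (.leaf 0))) (.node 5 (.node 4 (.leaf 0x400000000000000000000000000000000) (.leaf 0)) (.node 6 (.leaf 0) (.leaf 0)))) (.node 11 (.node 9 (.node 8 (.leaf 0) (.leaf 0)) (.node 10 (.leaf 0) (.leaf 0))) (.node 13 (.node 12 (.leaf 0) (.leaf 0)) (.node 14 (.leaf 0) (.leaf 0))))) (.node 22 (.node 18 (.node 16 (.leaf 0) (.node 17 (.leaf 0) (.leaf 0))) (.node 20 (.node 19 (.leaf 0x20000000000000000000000000000000000000000)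 (.leaf 0)) (.node 21 (.leaf 0) (.leaf 0)))) (.node 26 (.node 24 (.node 23 (.leaf 0) (.leaf 0)) (.node 25 (.leaf 0) (.leaf 0))) (.node 28 (.node 27 (.leaf 0) (.leaf 0)) (.node 29 (.leaf 0) (.leaf 0)))))) (.node 45 (.node 37 (.node 33 (.node 31 (.leaf 0) (.node 32 (.leaf 0) (.leaf 0))) (.node 35 (.node 34 (.leaf 0) (.leaf 0)) (.node 36 (.leaf 0x9000500070006) (.leaf 0)))) (.node 41 (.node 39 (.node 38 (.leaf 0) (.leaf 0)) (.node 40 (.leaf 0) (.leaf 0))) (.node 43 (.node 42 (.leaf 0) (.leaf 0)) (.node 44 (.leaf 0) (.leaf 0))))) (.node 53 (.node 49 (.node 47 (.node 46 (.leaf 0) (.leaf 0)) (.node 48 (.leaf 0) (.leaf 0))) (.node 51 (.node 50 (.leaf 0) (.leaf 0)) (.node 52 (.leaf 0) (.leaf 0)))) (.node 57 (.node 55 (.node 54 (.leaf 0) (.leaf 0)) (.node 56 (.leaf 0) (.leaf 0))) (.node 59 (.node 58 (.leaf 0) (.leaf 0)) (.node 60 (.leaf 0) (.leaf 0)))))))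

def kp4PB1 : Bst := (.node 92 (.node 76 (.node 68 (.node 64 (.node 62 (.leaf 0) (.node 63 (.leaf 0) (.leaf 0))) (.node 66 (.node 65 (.leaf 0) (.leaf 0)) (.node 67 (.leaf 0) (.leaf 0)))) (.node 72 (.node 70 (.node 69 (.leaf 0) (.leaf 0)) (.node 71 (.leaf 0) (.leaf 0))) (.node 74 (.node 73 (.leaf 0) (.leaf 0)) (.node 75 (.leaf 0) (.leaf 0))))) (.node 84 (.node 80 (.node 78 (.node 77 (.leaf 0) (.leaf 0)) (.node 79 (.leaf 0) (.leaf 0))) (.node 82 (.node 81 (.leaf 0) (.leaf 0)) (.node 83 (.leaf 0) (.leaf 0)))) (.node 88 (.node 86 (.node 85 (.leaf 0) (.leaf 0)) (.node 87 (.leaf 0) (.leaf 0))) (.node 90 (.node 89 (.leaf 0) (.leaf 0)) (.node 91 (.leaf 0) (.leaf 0)))))) (.node 107 (.node 99 (.node 95 (.node 93 (.leaf 0) (.node 94 (.leaf 0) (.leaf 0))) (.node 97 (.node 96 (.leaf 0) (.leaf 0)) (.node 98 (.leaf 0) (.leaf 0)))) (.node 103 (.node 101 (.node 100 (.leaf 0) (.leaf 0)) (.node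 102 (.leaf 0) (.leaf 0))) (.node 105 (.node 104 (.leaf 0) (.leaf 0)) (.node 106 (.leaf 0) (.leaf 0))))) (.node 115 (.node 111 (.node 109 (.node 108 (.leaf 0) (.leaf 0)) (.node 110 (.leaf 0) (.leaf 0))) (.node 113 (.node 112 (.leaf 0) (.leaf 0)) (.node 114 (.leaf 0) (.leaf 0)))) (.node 119 (.node 117 (.node 116 (.leaf 0) (.leaf 0)) (.node 118 (.leaf 0) (.leaf 0))) (.node 121 (.node 120 (.leaf 0) (.leaf 0)) (.node 122 (.leaf 0) (.leaf 0)))))))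

def kp4PB2 : Bst := (.node 154 (.node 138 (.node 130 (.node 126 (.node 124 (.leaf 0) (.node 125 (.leaf 0) (.leaf 0))) (.node 128 (.node 127 (.leaf 0) (.leaf 0)) (.node 129 (.leaf 0) (.leaf 0)))) (.node 134 (.node 132 (.node 131 (.leaf 0) (.leaf 0)) (.node 133 (.leaf 0) (.leaf 0))) (.node 136 (.node 135 (.leaf 0) (.leaf 0)) (.node 137 (.leaf 0) (.leaf 0))))) (.node 146 (.node 142 (.node 140 (.node 139 (.leaf 0) (.leaf 0)) (.node 141 (.leaf 0) (.leaf 0))) (.node 144 (.node 143 (.leaf 0) (.leaf 0)) (.node 145 (.leaf 0) (.leaf 0)))) (.node 150 (.node 148 (.node 147 (.leaf 0) (.leaf 0)) (.node 149 (.leaf 0) (.leaf 0))) (.node 152 (.node 151 (.leaf 0) (.leaf 0)) (.node 153 (.leaf 0) (.leaf 0)))))) (.node 169 (.node 161 (.node 157 (.node 155 (.leaf 0) (.node 156 (.leaf 0) (.leaf 0))) (.node 159 (.node 158 (.leaf 0) (.leaf 0)) (.node 160 (.leaf 0) (.leaf 0)))) (.node 165 (.node 163 (.node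 162 (.leaf 0) (.leaf 0)) (.node 164 (.leaf 0) (.leaf 0))) (.node 167 (.node 166 (.leaf 0) (.leaf 0)) (.node 168 (.leaf 0) (.leaf 0))))) (.node 177 (.node 173 (.node 171 (.node 170 (.leaf 0) (.leaf 0)) (.node 172 (.leaf 0) (.leaf 0))) (.node 175 (.node 174 (.leaf 0) (.leaf 0)) (.node 176 (.leaf 0) (.leaf 0)))) (.node 181 (.node 179 (.node 178 (.leaf 0) (.leaf 0)) (.node 180 (.leaf 0) (.leaf 0))) (.node 183 (.node 182 (.leaf 0) (.leaf 0)) (.node 184 (.leaf 0) (.leaf 0)))))))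

def kp4PB3 : Bst := (.node 216 (.node 200 (.node 192 (.node 188 (.node 186 (.leaf 0) (.node 187 (.leaf 0) (.leaf 0))) (.node 190 (.node 189 (.leaf 0) (.leaf 0)) (.node 191 (.leaf 0) (.leaf 0)))) (.node 196 (.node 194 (.node 193 (.leaf 0) (.leaf 0)) (.node 195 (.leaf 0) (.leaf 0))) (.node 198 (.node 197 (.leaf 0) (.leaf 0)) (.node 199 (.leaf 0) (.leaf 0))))) (.node 208 (.node 204 (.node 202 (.node 201 (.leaf 0) (.leaf 0)) (.node 203 (.leaf 0) (.leaf 0))) (.node 206 (.node 205 (.leaf 0) (.leaf 0)) (.node 207 (.leaf 0) (.leaf 0)))) (.node 212 (.node 210 (.node 209 (.leaf 0) (.leaf 0)) (.node 211 (.leaf 0) (.leaf 0))) (.node 214 (.node 213 (.leaf 0) (.leaf 0)) (.node 215 (.leaf 0) (.leaf 0)))))) (.node 231 (.node 223 (.node 219 (.node 217 (.leaf 0) (.node 218 (.leaf 0) (.leaf 0))) (.node 221 (.node 220 (.leaf 0) (.leaf 0)) (.node 222 (.leaf 0) (.leaf 0)))) (.node 227 (.node 225 (.node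 224 (.leaf 0) (.leaf 0)) (.node 226 (.leaf 0) (.leaf 0))) (.node 229 (.node 228 (.leaf 0) (.leaf 0)) (.node 230 (.leaf 0) (.leaf 0))))) (.node 239 (.node 235 (.node 233 (.node 232 (.leaf 0) (.leaf 0)) (.node 234 (.leaf 0) (.leaf 0))) (.node 237 (.node 236 (.leaf 0) (.leaf 0)) (.node 238 (.leaf 0) (.leaf 0)))) (.node 243 (.node 241 (.node 240 (.leaf 0) (.leaf 0)) (.node 242 (.leaf 0) (.leaf 0))) (.node 245 (.node 244 (.leaf 0) (.leaf 0)) (.node 246 (.leaf 0) (.leaf 0)))))))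

def kp4PB4 : Bst := (.node 278 (.node 262 (.node 254 (.node 250 (.node 248 (.leaf 0) (.node 249 (.leaf 0) (.leaf 0))) (.node 252 (.node 251 (.leaf 0) (.leaf 0)) (.node 253 (.leaf 0) (.leaf 0)))) (.node 258 (.node 256 (.node 255 (.leaf 0) (.leaf 0)) (.node 257 (.leaf 0) (.leaf 0))) (.node 260 (.node 259 (.leaf 0) (.leaf 0)) (.node 261 (.leaf 0) (.leaf 0))))) (.node 270 (.node 266 (.node 264 (.node 263 (.leaf 0) (.leaf 0)) (.node 265 (.leaf 0) (.leaf 0))) (.node 268 (.node 267 (.leaf 0) (.leaf 0)) (.node 269 (.leaf 0) (.leaf 0)))) (.node 274 (.node 272 (.node 271 (.leaf 0) (.leaf 0)) (.node 273 (.leaf 0) (.leaf 0))) (.node 276 (.node 275 (.leaf 0) (.leaf 0)) (.node 277 (.leaf 0) (.leaf 0)))))) (.node 293 (.node 285 (.node 281 (.node 279 (.leaf 0) (.node 280 (.leaf 0) (.leaf 0))) (.node 283 (.node 282 (.leaf 0) (.leaf 0)) (.node 284 (.leaf 0) (.leaf 0)))) (.node 289 (.node 287 (.node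 286 (.leaf 0) (.leaf 0)) (.node 288 (.leaf 0) (.leaf 0))) (.node 291 (.node 290 (.leaf 0) (.leaf 0)) (.node 292 (.leaf 0) (.leaf 0))))) (.node 301 (.node 297 (.node 295 (.node 294 (.leaf 0) (.leaf 0)) (.node 296 (.leaf 0) (.leaf 0))) (.node 299 (.node 298 (.leaf 0) (.leaf 0)) (.node 300 (.leaf 0) (.leaf 0)))) (.node 305 (.node 303 (.node 302 (.leaf 0) (.leaf 0)) (.node 304 (.leaf 0) (.leaf 0))) (.node 307 (.node 306 (.leaf 0) (.leaf 0)) (.node 308 (.leaf 0) (.leaf 0)))))))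

def kp4PB5 : Bst := (.node 340 (.node 324 (.node 316 (.node 312 (.node 310 (.leaf 0) (.node 311 (.leaf 0) (.leaf 0))) (.node 314 (.node 313 (.leaf 0) (.leaf 0)) (.node 315 (.leaf 0) (.leaf 0)))) (.node 320 (.node 318 (.node 317 (.leaf 0) (.leaf 0)) (.node 319 (.leaf 0) (.leaf 0))) (.node 322 (.node 321 (.leaf 0) (.leaf 0)) (.node 323 (.leaf 0) (.leaf 0))))) (.node 332 (.node 328 (.node 326 (.node 325 (.leaf 0) (.leaf 0)) (.node 327 (.leaf 0) (.leaf 0))) (.node 330 (.node 329 (.leaf 0) (.leaf 0)) (.node 331 (.leaf 0) (.leaf 0)))) (.node 336 (.node 334 (.node 333 (.leaf 0) (.leaf 0)) (.node 335 (.leaf 0) (.leaf 0))) (.node 338 (.node 337 (.leaf 0) (.leaf 0)) (.node 339 (.leaf 0) (.leaf 0)))))) (.node 355 (.node 347 (.node 343 (.node 341 (.leaf 0) (.node 342 (.leaf 0) (.leaf 0))) (.node 345 (.node 344 (.leaf 0) (.leaf 0)) (.node 346 (.leaf 0) (.leaf 0)))) (.node 351 (.node 349 (.node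 348 (.leaf 0) (.leaf 0)) (.node 350 (.leaf 0) (.leaf 0))) (.node 353 (.node 352 (.leaf 0) (.leaf 0)) (.node 354 (.leaf 0) (.leaf 0))))) (.node 363 (.node 359 (.node 357 (.node 356 (.leaf 0) (.leaf 0)) (.node 358 (.leaf 0) (.leaf 0))) (.node 361 (.node 360 (.leaf 0) (.leaf 0)) (.node 362 (.leaf 0) (.leaf 0)))) (.node 367 (.node 365 (.node 364 (.leaf 0) (.leaf 0)) (.node 366 (.leaf 0) (.leaf 0))) (.node 369 (.node 368 (.leaf 0) (.leaf 0)) (.node 370 (.leaf 0) (.leaf 0)))))))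

def kp4PB6 : Bst := (.node 402 (.node 386 (.node 378 (.node 374 (.node 372 (.leaf 0) (.node 373 (.leaf 0) (.leaf 0))) (.node 376 (.node 375 (.leaf 0) (.leaf 0)) (.node 377 (.leaf 0) (.leaf 0)))) (.node 382 (.node 380 (.node 379 (.leaf 0) (.leaf 0)) (.node 381 (.leaf 0) (.leaf 0))) (.node 384 (.node 383 (.leaf 0) (.leaf 0)) (.node 385 (.leaf 0) (.leaf 0))))) (.node 394 (.node 390 (.node 388 (.node 387 (.leaf 0) (.leaf 0)) (.node 389 (.leaf 0) (.leaf 0))) (.node 392 (.node 391 (.leaf 0) (.leaf 0)) (.node 393 (.leaf 0) (.leaf 0)))) (.node 398 (.node 396 (.node 395 (.leaf 0) (.leaf 0)) (.node 397 (.leaf 0) (.leaf 0))) (.node 400 (.node 399 (.leaf 0) (.leaf 0)) (.node 401 (.leaf 0) (.leaf 0)))))) (.node 417 (.node 409 (.node 405 (.node 403 (.leaf 0) (.node 404 (.leaf 0) (.leaf 0))) (.node 407 (.node 406 (.leaf 0) (.leaf 0)) (.node 408 (.leaf 0) (.leaf 0)))) (.node 413 (.node 411 (.node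 410 (.leaf 0) (.leaf 0)) (.node 412 (.leaf 0) (.leaf 0))) (.node 415 (.node 414 (.leaf 0) (.leaf 0)) (.node 416 (.leaf 0) (.leaf 0))))) (.node 425 (.node 421 (.node 419 (.node 418 (.leaf 0) (.leaf 0)) (.node 420 (.leaf 0) (.leaf 0))) (.node 423 (.node 422 (.leaf 0) (.leaf 0)) (.node 424 (.leaf 0) (.leaf 0)))) (.node 429 (.node 427 (.node 426 (.leaf 0) (.leaf 0)) (.node 428 (.leaf 0) (.leaf 0))) (.node 431 (.node 430 (.leaf 0) (.leaf 0)) (.node 432 (.leaf 0) (.leaf 0)))))))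

def kp4PB7 : Bst := (.node 464 (.node 448 (.node 440 (.node 436 (.node 434 (.leaf 0) (.node 435 (.leaf 0) (.leaf 0))) (.node 438 (.node 437 (.leaf 0) (.leaf 0)) (.node 439 (.leaf 0) (.leaf 0)))) (.node 444 (.node 442 (.node 441 (.leaf 0) (.leaf 0)) (.node 443 (.leaf 0) (.leaf 0))) (.node 446 (.node 445 (.leaf 0) (.leaf 0)) (.node 447 (.leaf 0) (.leaf 0))))) (.node 456 (.node 452 (.node 450 (.node 449 (.leaf 0) (.leaf 0)) (.node 451 (.leaf 0) (.leaf 0))) (.node 454 (.node 453 (.leaf 0) (.leaf 0)) (.node 455 (.leaf 0) (.leaf 0)))) (.node 460 (.node 458 (.node 457 (.leaf 0) (.leaf 0)) (.node 459 (.leaf 0) (.leaf 0))) (.node 462 (.node 461 (.leaf 0) (.leaf 0)) (.node 463 (.leaf 0) (.leaf 0)))))) (.node 479 (.node 471 (.node 467 (.node 465 (.leaf 0) (.node 466 (.leaf 0) (.leaf 0))) (.node 469 (.node 468 (.leaf 0) (.leaf 0)) (.node 470 (.leaf 0) (.leaf 0)))) (.node 475 (.node 473 (.node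 472 (.leaf 0) (.leaf 0)) (.node 474 (.leaf 0) (.leaf 0))) (.node 477 (.node 476 (.leaf 0) (.leaf 0)) (.node 478 (.leaf 0) (.leaf 0))))) (.node 487 (.node 483 (.node 481 (.node 480 (.leaf 0) (.leaf 0)) (.node 482 (.leaf 0) (.leaf 0))) (.node 485 (.node 484 (.leaf 0) (.leaf 0)) (.node 486 (.leaf 0) (.leaf 0)))) (.node 491 (.node 489 (.node 488 (.leaf 0) (.leaf 0)) (.node 490 (.leaf 0) (.leaf 0))) (.node 493 (.node 492 (.leaf 0) (.leaf 0)) (.node 494 (.leaf 0) (.leaf 0)))))))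

def kp4PB8 : Bst := (.node 525 (.node 510 (.node 502 (.node 498 (.node 496 (.leaf 0) (.node 497 (.leaf 0) (.leaf 0))) (.node 500 (.node 499 (.leaf 0) (.leaf 0)) (.node 501 (.leaf 0) (.leaf 0)))) (.node 506 (.node 504 (.node 503 (.leaf 0) (.leaf 0)) (.node 505 (.leaf 0) (.leaf 0))) (.node 508 (.node 507 (.leaf 0) (.leaf 0)) (.node 509 (.leaf 0) (.leaf 0))))) (.node 517 (.node 513 (.node 511 (.leaf 0) (.node 512 (.leaf 0) (.leaf 0))) (.node 515 (.node 514 (.leaf 0) (.leaf 0)) (.node 516 (.leaf 0) (.leaf 0)))) (.node 521 (.node 519 (.node 518 (.leaf 0) (.leaf 0)) (.node 520 (.leaf 0) (.leaf 0))) (.node 523 (.node 522 (.leaf 0) (.leaf 0)) (.node 524 (.leaf 0) (.leaf 0)))))) (.node 540 (.node 532 (.node 528 (.node 526 (.leaf 0) (.node 527 (.leaf 0) (.leaf 0))) (.node 530 (.node 529 (.leaf 0) (.leaf 0)) (.node 531 (.leaf 0) (.leaf 0)))) (.node 536 (.node 534 (.node 533 (.leaf 0) (.leaf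 0)) (.node 535 (.leaf 0) (.leaf 0))) (.node 538 (.node 537 (.leaf 0) (.leaf 0)) (.node 539 (.leaf 0) (.leaf 0))))) (.node 548 (.node 544 (.node 542 (.node 541 (.leaf 0) (.leaf 0)) (.node 543 (.leaf 0) (.leaf 0))) (.node 546 (.node 545 (.leaf 0) (.leaf 0)) (.node 547 (.leaf 0) (.leaf 0)))) (.node 552 (.node 550 (.node 549 (.leaf 0) (.leaf 0)) (.node 551 (.leaf 0) (.leaf 0))) (.node 554 (.node 553 (.leaf 0) (.leaf 0)) (.node 555 (.leaf 0) (.leaf 0)))))))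

def kp4PB9 : Bst := (.node 587 (.node 571 (.node 563 (.node 559 (.node 557 (.leaf 0) (.node 558 (.leaf 0) (.leaf 0))) (.node 561 (.node 560 (.leaf 0) (.leaf 0)) (.node 562 (.leaf 0) (.leaf 0)))) (.node 567 (.node 565 (.node 564 (.leaf 0) (.leaf 0)) (.node 566 (.leaf 0) (.leaf 0))) (.node 569 (.node 568 (.leaf 0) (.leaf 0)) (.node 570 (.leaf 0) (.leaf 0))))) (.node 579 (.node 575 (.node 573 (.node 572 (.leaf 0) (.leaf 0)) (.node 574 (.leaf 0) (.leaf 0))) (.node 577 (.node 576 (.leaf 0) (.leaf 0)) (.node 578 (.leaf 0) (.leaf 0)))) (.node 583 (.node 581 (.node 580 (.leaf 0) (.leaf 0)) (.node 582 (.leaf 0) (.leaf 0))) (.node 585 (.node 584 (.leaf 0) (.leaf 0)) (.node 586 (.leaf 0) (.leaf 0)))))) (.node 602 (.node 594 (.node 590 (.node 588 (.leaf 0) (.node 589 (.leaf 0) (.leaf 0))) (.node 592 (.node 591 (.leaf 0) (.leaf 0)) (.node 593 (.leaf 0) (.leaf 0)))) (.node 598 (.node 596 (.node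 595 (.leaf 0) (.leaf 0)) (.node 597 (.leaf 0) (.leaf 0))) (.node 600 (.node 599 (.leaf 0) (.leaf 0)) (.node 601 (.leaf 0) (.leaf 0))))) (.node 610 (.node 606 (.node 604 (.node 603 (.leaf 0) (.leaf 0)) (.node 605 (.leaf 0) (.leaf 0))) (.node 608 (.node 607 (.leaf 0) (.leaf 0)) (.node 609 (.leaf 0) (.leaf 0)))) (.node 614 (.node 612 (.node 611 (.leaf 0) (.leaf 0)) (.node 613 (.leaf 0) (.leaf 0))) (.node 616 (.node 615 (.leaf 0) (.leaf 0)) (.node 617 (.leaf 0) (.leaf 0)))))))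

def kp4PB10 : Bst := (.node 649 (.node 633 (.node 625 (.node 621 (.node 619 (.leaf 0) (.node 620 (.leaf 0) (.leaf 0))) (.node 623 (.node 622 (.leaf 0) (.leaf 0)) (.node 624 (.leaf 0) (.leaf 0)))) (.node 629 (.node 627 (.node 626 (.leaf 0) (.leaf 0)) (.node 628 (.leaf 0) (.leaf 0))) (.node 631 (.node 630 (.leaf 0) (.leaf 0)) (.node 632 (.leaf 0) (.leaf 0))))) (.node 641 (.node 637 (.node 635 (.node 634 (.leaf 0) (.leaf 0)) (.node 636 (.leaf 0) (.leaf 0))) (.node 639 (.node 638 (.leaf 0) (.leaf 0)) (.node 640 (.leaf 0) (.leaf 0)))) (.node 645 (.node 643 (.node 642 (.leaf 0) (.leaf 0)) (.node 644 (.leaf 0) (.leaf 0))) (.node 647 (.node 646 (.leaf 0) (.leaf 0)) (.node 648 (.leaf 0) (.leaf 0)))))) (.node 664 (.node 656 (.node 652 (.node 650 (.leaf 0) (.node 651 (.leaf 0) (.leaf 0))) (.node 654 (.node 653 (.leaf 0) (.leaf 0)) (.node 655 (.leaf 0) (.leaf 0)))) (.node 660 (.node 658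 (.node 657 (.leaf 0) (.leaf 0)) (.node 659 (.leaf 0) (.leaf 0))) (.node 662 (.node 661 (.leaf 0) (.leaf 0)) (.node 663 (.leaf 0) (.leaf 0))))) (.node 672 (.node 668 (.node 666 (.node 665 (.leaf 0) (.leaf 0)) (.node 667 (.leaf 0) (.leaf 0))) (.node 670 (.node 669 (.leaf 0) (.leaf 0)) (.node 671 (.leaf 0) (.leaf 0)))) (.node 676 (.node 674 (.node 673 (.leaf 0) (.leaf 0)) (.node 675 (.leaf 0) (.leaf 0))) (.node 678 (.node 677 (.leaf 0) (.leaf 0)) (.node 679 (.leaf 0) (.leaf 0)))))))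

def kp4PB11 : Bst := (.node 711 (.node 695 (.node 687 (.node 683 (.node 681 (.leaf 0) (.node 682 (.leaf 0) (.leaf 0))) (.node 685 (.node 684 (.leaf 0) (.leaf 0)) (.node 686 (.leaf 0) (.leaf 0)))) (.node 691 (.node 689 (.node 688 (.leaf 0) (.leaf 0)) (.node 690 (.leaf 0) (.leaf 0))) (.node 693 (.node 692 (.leaf 0) (.leaf 0)) (.node 694 (.leaf 0) (.leaf 0))))) (.node 703 (.node 699 (.node 697 (.node 696 (.leaf 0) (.leaf 0)) (.node 698 (.leaf 0) (.leaf 0))) (.node 701 (.node 700 (.leaf 0) (.leaf 0)) (.node 702 (.leaf 0) (.leaf 0)))) (.node 707 (.node 705 (.node 704 (.leaf 0) (.leaf 0)) (.node 706 (.leaf 0) (.leaf 0))) (.node 709 (.node 708 (.leaf 0) (.leaf 0)) (.node 710 (.leaf 0) (.leaf 0)))))) (.node 726 (.node 718 (.node 714 (.node 712 (.leaf 0) (.node 713 (.leaf 0) (.leaf 0))) (.node 716 (.node 715 (.leaf 0) (.leaf 0)) (.node 717 (.leaf 0) (.leaf 0)))) (.node 722 (.node 720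 (.node 719 (.leaf 0) (.leaf 0)) (.node 721 (.leaf 0) (.leaf 0))) (.node 724 (.node 723 (.leaf 0) (.leaf 0)) (.node 725 (.leaf 0) (.leaf 0))))) (.node 734 (.node 730 (.node 728 (.node 727 (.leaf 0) (.leaf 0)) (.node 729 (.leaf 0) (.leaf 0))) (.node 732 (.node 731 (.leaf 0) (.leaf 0)) (.node 733 (.leaf 0) (.leaf 0)))) (.node 738 (.node 736 (.node 735 (.leaf 0) (.leaf 0)) (.node 737 (.leaf 0) (.leaf 0))) (.node 740 (.node 739 (.leaf 0) (.leaf 0)) (.node 741 (.leaf 0) (.leaf 0)))))))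

def kp4PB12 : Bst := (.node 773 (.node 757 (.node 749 (.node 745 (.node 743 (.leaf 0) (.node 744 (.leaf 0) (.leaf 0))) (.node 747 (.node 746 (.leaf 0) (.leaf 0)) (.node 748 (.leaf 0) (.leaf 0)))) (.node 753 (.node 751 (.node 750 (.leaf 0) (.leaf 0)) (.node 752 (.leaf 0) (.leaf 0))) (.node 755 (.node 754 (.leaf 0) (.leaf 0)) (.node 756 (.leaf 0) (.leaf 0))))) (.node 765 (.node 761 (.node 759 (.node 758 (.leaf 0) (.leaf 0)) (.node 760 (.leaf 0) (.leaf 0))) (.node 763 (.node 762 (.leaf 0) (.leaf 0)) (.node 764 (.leaf 0) (.leaf 0)))) (.node 769 (.node 767 (.node 766 (.leaf 0) (.leaf 0)) (.node 768 (.leaf 0) (.leaf 0))) (.node 771 (.node 770 (.leaf 0) (.leaf 0)) (.node 772 (.leaf 0) (.leaf 0)))))) (.node 788 (.node 780 (.node 776 (.node 774 (.leaf 0) (.node 775 (.leaf 0) (.leaf 0))) (.node 778 (.node 777 (.leaf 0) (.leaf 0)) (.node 779 (.leaf 0) (.leaf 0)))) (.node 784 (.node 782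 (.node 781 (.leaf 0) (.leaf 0)) (.node 783 (.leaf 0) (.leaf 0))) (.node 786 (.node 785 (.leaf 0) (.leaf 0)) (.node 787 (.leaf 0) (.leaf 0))))) (.node 796 (.node 792 (.node 790 (.node 789 (.leaf 0) (.leaf 0)) (.node 791 (.leaf 0) (.leaf 0))) (.node 794 (.node 793 (.leaf 0) (.leaf 0)) (.node 795 (.leaf 0) (.leaf 0)))) (.node 800 (.node 798 (.node 797 (.leaf 0) (.leaf 0)) (.node 799 (.leaf 0) (.leaf 0))) (.node 802 (.node 801 (.leaf 0) (.leaf 0)) (.node 803 (.leaf 0) (.leaf 0)))))))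

def kp4PB13 : Bst := (.node 835 (.node 819 (.node 811 (.node 807 (.node 805 (.leaf 0) (.node 806 (.leaf 0) (.leaf 0))) (.node 809 (.node 808 (.leaf 0) (.leaf 0)) (.node 810 (.leaf 0) (.leaf 0)))) (.node 815 (.node 813 (.node 812 (.leaf 0) (.leaf 0)) (.node 814 (.leaf 0) (.leaf 0))) (.node 817 (.node 816 (.leaf 0) (.leaf 0)) (.node 818 (.leaf 0) (.leaf 0))))) (.node 827 (.node 823 (.node 821 (.node 820 (.leaf 0) (.leaf 0)) (.node 822 (.leaf 0) (.leaf 0))) (.node 825 (.node 824 (.leaf 0) (.leaf 0)) (.node 826 (.leaf 0) (.leaf 0)))) (.node 831 (.node 829 (.node 828 (.leaf 0) (.leaf 0)) (.node 830 (.leaf 0) (.leaf 0))) (.node 833 (.node 832 (.leaf 0) (.leaf 0)) (.node 834 (.leaf 0) (.leaf 0)))))) (.node 850 (.node 842 (.node 838 (.node 836 (.leaf 0) (.node 837 (.leaf 0) (.leaf 0))) (.node 840 (.node 839 (.leaf 0) (.leaf 0)) (.node 841 (.leaf 0) (.leaf 0)))) (.node 846 (.node 844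 (.node 843 (.leaf 0) (.leaf 0)) (.node 845 (.leaf 0) (.leaf 0))) (.node 848 (.node 847 (.leaf 0) (.leaf 0)) (.node 849 (.leaf 0) (.leaf 0))))) (.node 858 (.node 854 (.node 852 (.node 851 (.leaf 0) (.leaf 0)) (.node 853 (.leaf 0) (.leaf 0))) (.node 856 (.node 855 (.leaf 0) (.leaf 0)) (.node 857 (.leaf 0) (.leaf 0)))) (.node 862 (.node 860 (.node 859 (.leaf 0) (.leaf 0)) (.node 861 (.leaf 0) (.leaf 0))) (.node 864 (.node 863 (.leaf 0) (.leaf 0)) (.node 865 (.leaf 0) (.leaf 0)))))))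

def kp4PB14 : Bst := (.node 897 (.node 881 (.node 873 (.node 869 (.node 867 (.leaf 0) (.node 868 (.leaf 0) (.leaf 0))) (.node 871 (.node 870 (.leaf 0) (.leaf 0)) (.node 872 (.leaf 0) (.leaf 0)))) (.node 877 (.node 875 (.node 874 (.leaf 0) (.leaf 0)) (.node 876 (.leaf 0) (.leaf 0))) (.node 879 (.node 878 (.leaf 0) (.leaf 0)) (.node 880 (.leaf 0) (.leaf 0))))) (.node 889 (.node 885 (.node 883 (.node 882 (.leaf 0) (.leaf 0)) (.node 884 (.leaf 0) (.leaf 0))) (.node 887 (.node 886 (.leaf 0) (.leaf 0)) (.node 888 (.leaf 0) (.leaf 0)))) (.node 893 (.node 891 (.node 890 (.leaf 0) (.leaf 0)) (.node 892 (.leaf 0) (.leaf 0))) (.node 895 (.node 894 (.leaf 0) (.leaf 0)) (.node 896 (.leaf 0) (.leaf 0)))))) (.node 912 (.node 904 (.node 900 (.node 898 (.leaf 0) (.node 899 (.leaf 0) (.leaf 0))) (.node 902 (.node 901 (.leaf 0) (.leaf 0)) (.node 903 (.leaf 0) (.leaf 0)))) (.node 908 (.node 906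 (.node 905 (.leaf 0) (.leaf 0)) (.node 907 (.leaf 0) (.leaf 0))) (.node 910 (.node 909 (.leaf 0) (.leaf 0)) (.node 911 (.leaf 0) (.leaf 0))))) (.node 920 (.node 916 (.node 914 (.node 913 (.leaf 0) (.leaf 0)) (.node 915 (.leaf 0) (.leaf 0))) (.node 918 (.node 917 (.leaf 0) (.leaf 0)) (.node 919 (.leaf 0) (.leaf 0)))) (.node 924 (.node 922 (.node 921 (.leaf 0) (.leaf 0)) (.node 923 (.leaf 0) (.leaf 0))) (.node 926 (.node 925 (.leaf 0) (.leaf 0)) (.node 927 (.leaf 0) (.leaf 0)))))))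

def kp4PB15 : Bst := (.node 959 (.node 943 (.node 935 (.node 931 (.node 929 (.leaf 0) (.node 930 (.leaf 0) (.leaf 0))) (.node 933 (.node 932 (.leaf 0) (.leaf 0)) (.node 934 (.leaf 0) (.leaf 0)))) (.node 939 (.node 937 (.node 936 (.leaf 0) (.leaf 0)) (.node 938 (.leaf 0) (.leaf 0))) (.node 941 (.node 940 (.leaf 0) (.leaf 0)) (.node 942 (.leaf 0) (.leaf 0))))) (.node 951 (.node 947 (.node 945 (.node 944 (.leaf 0) (.leaf 0)) (.node 946 (.leaf 0) (.leaf 0))) (.node 949 (.node 948 (.leaf 0) (.leaf 0)) (.node 950 (.leaf 0) (.leaf 0)))) (.node 955 (.node 953 (.node 952 (.leaf 0) (.leaf 0)) (.node 954 (.leaf 0) (.leaf 0))) (.node 957 (.node 956 (.leaf 0) (.leaf 0)) (.node 958 (.leaf 0) (.leaf 0)))))) (.node 974 (.node 966 (.node 962 (.node 960 (.leaf 0) (.node 961 (.leaf 0) (.leaf 0))) (.node 964 (.node 963 (.leaf 0) (.leaf 0)) (.node 965 (.leaf 0) (.leaf 0)))) (.node 970 (.node 968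 (.node 967 (.leaf 0) (.leaf 0)) (.node 969 (.leaf 0) (.leaf 0))) (.node 972 (.node 971 (.leaf 0) (.leaf 0)) (.node 973 (.leaf 0) (.leaf 0))))) (.node 982 (.node 978 (.node 976 (.node 975 (.leaf 0) (.leaf 0)) (.node 977 (.leaf 0) (.leaf 0))) (.node 980 (.node 979 (.leaf 0) (.leaf 0)) (.node 981 (.leaf 0) (.leaf 0)))) (.node 986 (.node 984 (.node 983 (.leaf 0) (.leaf 0)) (.node 985 (.leaf 0) (.leaf 0))) (.node 988 (.node 987 (.leaf 0) (.leaf 0)) (.node 989 (.leaf 0) (.leaf 0)))))))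

def kp4PB16 : Bst := (.node 1020 (.node 1005 (.node 997 (.node 993 (.node 991 (.leaf 0) (.node 992 (.leaf 0) (.leaf 0))) (.node 995 (.node 994 (.leaf 0) (.leaf 0)) (.node 996 (.leaf 0) (.leaf 0)))) (.node 1001 (.node 999 (.node 998 (.leaf 0) (.leaf 0)) (.node 1000 (.leaf 0) (.leaf 0))) (.node 1003 (.node 1002 (.leaf 0) (.leaf 0)) (.node 1004 (.leaf 0) (.leaf 0))))) (.node 1012 (.node 1008 (.node 1006 (.leaf 0) (.node 1007 (.leaf 0) (.leaf 0))) (.node 1010 (.node 1009 (.leaf 0) (.leaf 0)) (.node 1011 (.leaf 0) (.leaf 0)))) (.node 1016 (.node 1014 (.node 1013 (.leaf 0) (.leaf 0)) (.node 1015 (.leaf 0) (.leaf 0))) (.node 1018 (.node 1017 (.leaf 0) (.leaf 0)) (.node 1019 (.leaf 0) (.leaf 0)))))) (.node 1035 (.node 1027 (.node 1023 (.node 1021 (.leaf 0) (.node 1022 (.leaf 0) (.leaf 0))) (.node 1025 (.node 1024 (.leaf 0) (.leaf 0)) (.node 1026 (.leaf 0) (.leaf 0)))) (.node 1031 (.node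 1029 (.node 1028 (.leaf 0) (.leaf 0)) (.node 1030 (.leaf 0) (.leaf 0))) (.node 1033 (.node 1032 (.leaf 0) (.leaf 0)) (.node 1034 (.leaf 0) (.leaf 0))))) (.node 1043 (.node 1039 (.node 1037 (.node 1036 (.leaf 0) (.leaf 0)) (.node 1038 (.leaf 0) (.leaf 0))) (.node 1041 (.node 1040 (.leaf 0) (.leaf 0)) (.node 1042 (.leaf 0) (.leaf 0)))) (.node 1047 (.node 1045 (.node 1044 (.leaf 0) (.leaf 0)) (.node 1046 (.leaf 0) (.leaf 0))) (.node 1049 (.node 1048 (.leaf 0) (.leaf 0)) (.node 1050 (.leaf 0) (.leaf 0)))))))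

def kp4PB17 : Bst := (.node 1082 (.node 1066 (.node 1058 (.node 1054 (.node 1052 (.leaf 0) (.node 1053 (.leaf 0) (.leaf 0))) (.node 1056 (.node 1055 (.leaf 0) (.leaf 0)) (.node 1057 (.leaf 0) (.leaf 0)))) (.node 1062 (.node 1060 (.node 1059 (.leaf 0) (.leaf 0)) (.node 1061 (.leaf 0) (.leaf 0))) (.node 1064 (.node 1063 (.leaf 0) (.leaf 0)) (.node 1065 (.leaf 0) (.leaf 0))))) (.node 1074 (.node 1070 (.node 1068 (.node 1067 (.leaf 0) (.leaf 0)) (.node 1069 (.leaf 0) (.leaf 0))) (.node 1072 (.node 1071 (.leaf 0) (.leaf 0)) (.node 1073 (.leaf 0) (.leaf 0)))) (.node 1078 (.node 1076 (.node 1075 (.leaf 0) (.leaf 0)) (.node 1077 (.leaf 0) (.leaf 0))) (.node 1080 (.node 1079 (.leaf 0) (.leaf 0)) (.node 1081 (.leaf 0) (.leaf 0)))))) (.node 1097 (.node 1089 (.node 1085 (.node 1083 (.leaf 0) (.node 1084 (.leaf 0) (.leaf 0))) (.node 1087 (.node 1086 (.leaf 0) (.leaf 0)) (.node 1088 (.leaf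 0) (.leaf 0)))) (.node 1093 (.node 1091 (.node 1090 (.leaf 0) (.leaf 0)) (.node 1092 (.leaf 0) (.leaf 0))) (.node 1095 (.node 1094 (.leaf 0) (.leaf 0)) (.node 1096 (.leaf 0) (.leaf 0))))) (.node 1105 (.node 1101 (.node 1099 (.node 1098 (.leaf 0) (.leaf 0)) (.node 1100 (.leaf 0) (.leaf 0))) (.node 1103 (.node 1102 (.leaf 0) (.leaf 0)) (.node 1104 (.leaf 0) (.leaf 0)))) (.node 1109 (.node 1107 (.node 1106 (.leaf 0) (.leaf 0)) (.node 1108 (.leaf 0) (.leaf 0))) (.node 1111 (.node 1110 (.leaf 0) (.leaf 0)) (.node 1112 (.leaf 0) (.leaf 0)))))))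

def kp4PB18 : Bst := (.node 1144 (.node 1128 (.node 1120 (.node 1116 (.node 1114 (.leaf 0) (.node 1115 (.leaf 0) (.leaf 0))) (.node 1118 (.node 1117 (.leaf 0) (.leaf 0)) (.node 1119 (.leaf 0) (.leaf 0)))) (.node 1124 (.node 1122 (.node 1121 (.leaf 0) (.leaf 0)) (.node 1123 (.leaf 0) (.leaf 0))) (.node 1126 (.node 1125 (.leaf 0) (.leaf 0)) (.node 1127 (.leaf 0) (.leaf 0))))) (.node 1136 (.node 1132 (.node 1130 (.node 1129 (.leaf 0) (.leaf 0)) (.node 1131 (.leaf 0) (.leaf 0))) (.node 1134 (.node 1133 (.leaf 0) (.leaf 0)) (.node 1135 (.leaf 0) (.leaf 0)))) (.node 1140 (.node 1138 (.node 1137 (.leaf 0) (.leaf 0)) (.node 1139 (.leaf 0) (.leaf 0))) (.node 1142 (.node 1141 (.leaf 0) (.leaf 0)) (.node 1143 (.leaf 0) (.leaf 0)))))) (.node 1159 (.node 1151 (.node 1147 (.node 1145 (.leaf 0) (.node 1146 (.leaf 0) (.leaf 0))) (.node 1149 (.node 1148 (.leaf 0) (.leaf 0)) (.node 1150 (.leaf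 0) (.leaf 0)))) (.node 1155 (.node 1153 (.node 1152 (.leaf 0) (.leaf 0)) (.node 1154 (.leaf 0) (.leaf 0))) (.node 1157 (.node 1156 (.leaf 0) (.leaf 0)) (.node 1158 (.leaf 0) (.leaf 0))))) (.node 1167 (.node 1163 (.node 1161 (.node 1160 (.leaf 0) (.leaf 0)) (.node 1162 (.leaf 0) (.leaf 0))) (.node 1165 (.node 1164 (.leaf 0) (.leaf 0)) (.node 1166 (.leaf 0) (.leaf 0)))) (.node 1171 (.node 1169 (.node 1168 (.leaf 0) (.leaf 0)) (.node 1170 (.leaf 0) (.leaf 0))) (.node 1173 (.node 1172 (.leaf 0) (.leaf 0)) (.node 1174 (.leaf 0) (.leaf 0)))))))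

def kp4PB19 : Bst := (.node 1206 (.node 1190 (.node 1182 (.node 1178 (.node 1176 (.leaf 0) (.node 1177 (.leaf 0) (.leaf 0))) (.node 1180 (.node 1179 (.leaf 0) (.leaf 0)) (.node 1181 (.leaf 0) (.leaf 0)))) (.node 1186 (.node 1184 (.node 1183 (.leaf 0) (.leaf 0)) (.node 1185 (.leaf 0) (.leaf 0))) (.node 1188 (.node 1187 (.leaf 0) (.leaf 0)) (.node 1189 (.leaf 0) (.leaf 0))))) (.node 1198 (.node 1194 (.node 1192 (.node 1191 (.leaf 0) (.leaf 0)) (.node 1193 (.leaf 0) (.leaf 0))) (.node 1196 (.node 1195 (.leaf 0) (.leaf 0)) (.node 1197 (.leaf 0) (.leaf 0)))) (.node 1202 (.node 1200 (.node 1199 (.leaf 0) (.leaf 0)) (.node 1201 (.leaf 0) (.leaf 0))) (.node 1204 (.node 1203 (.leaf 0) (.leaf 0)) (.node 1205 (.leaf 0) (.leaf 0)))))) (.node 1221 (.node 1213 (.node 1209 (.node 1207 (.leaf 0) (.node 1208 (.leaf 0) (.leaf 0))) (.node 1211 (.node 1210 (.leaf 0) (.leaf 0)) (.node 1212 (.leaf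 0) (.leaf 0)))) (.node 1217 (.node 1215 (.node 1214 (.leaf 0) (.leaf 0)) (.node 1216 (.leaf 0) (.leaf 0))) (.node 1219 (.node 1218 (.leaf 0) (.leaf 0)) (.node 1220 (.leaf 0) (.leaf 0))))) (.node 1229 (.node 1225 (.node 1223 (.node 1222 (.leaf 0) (.leaf 0)) (.node 1224 (.leaf 0) (.leaf 0))) (.node 1227 (.node 1226 (.leaf 0) (.leaf 0)) (.node 1228 (.leaf 0) (.leaf 0)))) (.node 1233 (.node 1231 (.node 1230 (.leaf 0) (.leaf 0)) (.node 1232 (.leaf 0) (.leaf 0))) (.node 1235 (.node 1234 (.leaf 0) (.leaf 0)) (.node 1236 (.leaf 0) (.leaf 0)))))))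

def kp4PB20 : Bst := (.node 1268 (.node 1252 (.node 1244 (.node 1240 (.node 1238 (.leaf 0) (.node 1239 (.leaf 0) (.leaf 0))) (.node 1242 (.node 1241 (.leaf 0) (.leaf 0)) (.node 1243 (.leaf 0) (.leaf 0)))) (.node 1248 (.node 1246 (.node 1245 (.leaf 0) (.leaf 0)) (.node 1247 (.leaf 0) (.leaf 0))) (.node 1250 (.node 1249 (.leaf 0) (.leaf 0)) (.node 1251 (.leaf 0) (.leaf 0))))) (.node 1260 (.node 1256 (.node 1254 (.node 1253 (.leaf 0) (.leaf 0)) (.node 1255 (.leaf 0) (.leaf 0))) (.node 1258 (.node 1257 (.leaf 0) (.leaf 0)) (.node 1259 (.leaf 0) (.leaf 0)))) (.node 1264 (.node 1262 (.node 1261 (.leaf 0) (.leaf 0)) (.node 1263 (.leaf 0) (.leaf 0))) (.node 1266 (.node 1265 (.leaf 0) (.leaf 0)) (.node 1267 (.leaf 0) (.leaf 0)))))) (.node 1283 (.node 1275 (.node 1271 (.node 1269 (.leaf 0) (.node 1270 (.leaf 0) (.leaf 0))) (.node 1273 (.node 1272 (.leaf 0) (.leaf 0)) (.node 1274 (.leaf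 0) (.leaf 0)))) (.node 1279 (.node 1277 (.node 1276 (.leaf 0) (.leaf 0)) (.node 1278 (.leaf 0) (.leaf 0))) (.node 1281 (.node 1280 (.leaf 0) (.leaf 0)) (.node 1282 (.leaf 0) (.leaf 0))))) (.node 1291 (.node 1287 (.node 1285 (.node 1284 (.leaf 0) (.leaf 0)) (.node 1286 (.leaf 0) (.leaf 0))) (.node 1289 (.node 1288 (.leaf 0) (.leaf 0)) (.node 1290 (.leaf 0) (.leaf 0)))) (.node 1295 (.node 1293 (.node 1292 (.leaf 0) (.leaf 0)) (.node 1294 (.leaf 0) (.leaf 0))) (.node 1297 (.node 1296 (.leaf 0) (.leaf 0)) (.node 1298 (.leaf 0) (.leaf 0)))))))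

def kp4PB21 : Bst := (.node 1330 (.node 1314 (.node 1306 (.node 1302 (.node 1300 (.leaf 0) (.node 1301 (.leaf 0) (.leaf 0))) (.node 1304 (.node 1303 (.leaf 0) (.leaf 0)) (.node 1305 (.leaf 0) (.leaf 0)))) (.node 1310 (.node 1308 (.node 1307 (.leaf 0) (.leaf 0)) (.node 1309 (.leaf 0) (.leaf 0))) (.node 1312 (.node 1311 (.leaf 0) (.leaf 0)) (.node 1313 (.leaf 0) (.leaf 0))))) (.node 1322 (.node 1318 (.node 1316 (.node 1315 (.leaf 0) (.leaf 0)) (.node 1317 (.leaf 0) (.leaf 0))) (.node 1320 (.node 1319 (.leaf 0) (.leaf 0)) (.node 1321 (.leaf 0) (.leaf 0)))) (.node 1326 (.node 1324 (.node 1323 (.leaf 0) (.leaf 0)) (.node 1325 (.leaf 0) (.leaf 0))) (.node 1328 (.node 1327 (.leaf 0) (.leaf 0)) (.node 1329 (.leaf 0) (.leaf 0)))))) (.node 1345 (.node 1337 (.node 1333 (.node 1331 (.leaf 0) (.node 1332 (.leaf 0) (.leaf 0))) (.node 1335 (.node 1334 (.leaf 0) (.leaf 0)) (.node 1336 (.leaf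 0) (.leaf 0)))) (.node 1341 (.node 1339 (.node 1338 (.leaf 0) (.leaf 0)) (.node 1340 (.leaf 0) (.leaf 0))) (.node 1343 (.node 1342 (.leaf 0) (.leaf 0)) (.node 1344 (.leaf 0) (.leaf 0))))) (.node 1353 (.node 1349 (.node 1347 (.node 1346 (.leaf 0) (.leaf 0)) (.node 1348 (.leaf 0) (.leaf 0))) (.node 1351 (.node 1350 (.leaf 0) (.leaf 0)) (.node 1352 (.leaf 0) (.leaf 0)))) (.node 1357 (.node 1355 (.node 1354 (.leaf 0) (.leaf 0)) (.node 1356 (.leaf 0) (.leaf 0))) (.node 1359 (.node 1358 (.leaf 0) (.leaf 0)) (.node 1360 (.leaf 0) (.leaf 0)))))))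

def kp4PB22 : Bst := (.node 1392 (.node 1376 (.node 1368 (.node 1364 (.node 1362 (.leaf 0) (.node 1363 (.leaf 0) (.leaf 0))) (.node 1366 (.node 1365 (.leaf 0) (.leaf 0)) (.node 1367 (.leaf 0) (.leaf 0)))) (.node 1372 (.node 1370 (.node 1369 (.leaf 0) (.leaf 0)) (.node 1371 (.leaf 0) (.leaf 0))) (.node 1374 (.node 1373 (.leaf 0) (.leaf 0)) (.node 1375 (.leaf 0) (.leaf 0))))) (.node 1384 (.node 1380 (.node 1378 (.node 1377 (.leaf 0) (.leaf 0)) (.node 1379 (.leaf 0) (.leaf 0))) (.node 1382 (.node 1381 (.leaf 0) (.leaf 0)) (.node 1383 (.leaf 0) (.leaf 0)))) (.node 1388 (.node 1386 (.node 1385 (.leaf 0) (.leaf 0)) (.node 1387 (.leaf 0) (.leaf 0))) (.node 1390 (.node 1389 (.leaf 0) (.leaf 0)) (.node 1391 (.leaf 0) (.leaf 0)))))) (.node 1407 (.node 1399 (.node 1395 (.node 1393 (.leaf 0) (.node 1394 (.leaf 0) (.leaf 0))) (.node 1397 (.node 1396 (.leaf 0) (.leaf 0)) (.node 1398 (.leaf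 0) (.leaf 0)))) (.node 1403 (.node 1401 (.node 1400 (.leaf 0) (.leaf 0)) (.node 1402 (.leaf 0) (.leaf 0))) (.node 1405 (.node 1404 (.leaf 0) (.leaf 0)) (.node 1406 (.leaf 0) (.leaf 0))))) (.node 1415 (.node 1411 (.node 1409 (.node 1408 (.leaf 0) (.leaf 0)) (.node 1410 (.leaf 0) (.leaf 0))) (.node 1413 (.node 1412 (.leaf 0) (.leaf 0)) (.node 1414 (.leaf 0) (.leaf 0)))) (.node 1419 (.node 1417 (.node 1416 (.leaf 0) (.leaf 0)) (.node 1418 (.leaf 0) (.leaf 0))) (.node 1421 (.node 1420 (.leaf 0) (.leaf 0)) (.node 1422 (.leaf 0) (.leaf 0)))))))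

def kp4PB23 : Bst := (.node 1454 (.node 1438 (.node 1430 (.node 1426 (.node 1424 (.leaf 0) (.node 1425 (.leaf 0) (.leaf 0))) (.node 1428 (.node 1427 (.leaf 0) (.leaf 0)) (.node 1429 (.leaf 0) (.leaf 0)))) (.node 1434 (.node 1432 (.node 1431 (.leaf 0) (.leaf 0)) (.node 1433 (.leaf 0) (.leaf 0))) (.node 1436 (.node 1435 (.leaf 0) (.leaf 0)) (.node 1437 (.leaf 0) (.leaf 0))))) (.node 1446 (.node 1442 (.node 1440 (.node 1439 (.leaf 0) (.leaf 0)) (.node 1441 (.leaf 0) (.leaf 0))) (.node 1444 (.node 1443 (.leaf 0) (.leaf 0)) (.node 1445 (.leaf 0) (.leaf 0)))) (.node 1450 (.node 1448 (.node 1447 (.leaf 0) (.leaf 0)) (.node 1449 (.leaf 0) (.leaf 0))) (.node 1452 (.node 1451 (.leaf 0) (.leaf 0)) (.node 1453 (.leaf 0) (.leaf 0)))))) (.node 1469 (.node 1461 (.node 1457 (.node 1455 (.leaf 0) (.node 1456 (.leaf 0) (.leaf 0))) (.node 1459 (.node 1458 (.leaf 0) (.leaf 0)) (.node 1460 (.leaf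 0) (.leaf 0)))) (.node 1465 (.node 1463 (.node 1462 (.leaf 0) (.leaf 0)) (.node 1464 (.leaf 0) (.leaf 0))) (.node 1467 (.node 1466 (.leaf 0) (.leaf 0)) (.node 1468 (.leaf 0) (.leaf 0))))) (.node 1477 (.node 1473 (.node 1471 (.node 1470 (.leaf 0) (.leaf 0)) (.node 1472 (.leaf 0) (.leaf 0))) (.node 1475 (.node 1474 (.leaf 0) (.leaf 0)) (.node 1476 (.leaf 0) (.leaf 0)))) (.node 1481 (.node 1479 (.node 1478 (.leaf 0) (.leaf 0)) (.node 1480 (.leaf 0) (.leaf 0))) (.node 1483 (.node 1482 (.leaf 0) (.leaf 0)) (.node 1484 (.leaf 0) (.leaf 0)))))))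

def kp4PB24 : Bst := (.node 1515 (.node 1500 (.node 1492 (.node 1488 (.node 1486 (.leaf 0) (.node 1487 (.leaf 0) (.leaf 0))) (.node 1490 (.node 1489 (.leaf 0) (.leaf 0)) (.node 1491 (.leaf 0) (.leaf 0)))) (.node 1496 (.node 1494 (.node 1493 (.leaf 0) (.leaf 0)) (.node 1495 (.leaf 0) (.leaf 0))) (.node 1498 (.node 1497 (.leaf 0) (.leaf 0)) (.node 1499 (.leaf 0) (.leaf 0))))) (.node 1507 (.node 1503 (.node 1501 (.leaf 0) (.node 1502 (.leaf 0) (.leaf 0))) (.node 1505 (.node 1504 (.leaf 0) (.leaf 0)) (.node 1506 (.leaf 0) (.leaf 0)))) (.node 1511 (.node 1509 (.node 1508 (.leaf 0) (.leaf 0)) (.node 1510 (.leaf 0) (.leaf 0))) (.node 1513 (.node 1512 (.leaf 0) (.leaf 0)) (.node 1514 (.leaf 0) (.leaf 0)))))) (.node 1530 (.node 1522 (.node 1518 (.node 1516 (.leaf 0) (.node 1517 (.leaf 0) (.leaf 0))) (.node 1520 (.node 1519 (.leaf 0) (.leaf 0)) (.node 1521 (.leaf 0) (.leaf 0)))) (.node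 1526 (.node 1524 (.node 1523 (.leaf 0) (.leaf 0)) (.node 1525 (.leaf 0) (.leaf 0))) (.node 1528 (.node 1527 (.leaf 0) (.leaf 0)) (.node 1529 (.leaf 0) (.leaf 0))))) (.node 1538 (.node 1534 (.node 1532 (.node 1531 (.leaf 0) (.leaf 0)) (.node 1533 (.leaf 0) (.leaf 0))) (.node 1536 (.node 1535 (.leaf 0) (.leaf 0)) (.node 1537 (.leaf 0) (.leaf 0)))) (.node 1542 (.node 1540 (.node 1539 (.leaf 0) (.leaf 0)) (.node 1541 (.leaf 0) (.leaf 0))) (.node 1544 (.node 1543 (.leaf 0) (.leaf 0)) (.node 1545 (.leaf 0) (.leaf 0)))))))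

def kp4PB25 : Bst := (.node 1577 (.node 1561 (.node 1553 (.node 1549 (.node 1547 (.leaf 0) (.node 1548 (.leaf 0) (.leaf 0))) (.node 1551 (.node 1550 (.leaf 0) (.leaf 0)) (.node 1552 (.leaf 0) (.leaf 0)))) (.node 1557 (.node 1555 (.node 1554 (.leaf 0) (.leaf 0)) (.node 1556 (.leaf 0) (.leaf 0))) (.node 1559 (.node 1558 (.leaf 0) (.leaf 0)) (.node 1560 (.leaf 0) (.leaf 0))))) (.node 1569 (.node 1565 (.node 1563 (.node 1562 (.leaf 0) (.leaf 0)) (.node 1564 (.leaf 0) (.leaf 0))) (.node 1567 (.node 1566 (.leaf 0) (.leaf 0)) (.node 1568 (.leaf 0) (.leaf 0)))) (.node 1573 (.node 1571 (.node 1570 (.leaf 0) (.leaf 0)) (.node 1572 (.leaf 0) (.leaf 0))) (.node 1575 (.node 1574 (.leaf 0) (.leaf 0)) (.node 1576 (.leaf 0) (.leaf 0)))))) (.node 1592 (.node 1584 (.node 1580 (.node 1578 (.leaf 0) (.node 1579 (.leaf 0) (.leaf 0))) (.node 1582 (.node 1581 (.leaf 0) (.leaf 0)) (.node 1583 (.leaf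 0) (.leaf 0)))) (.node 1588 (.node 1586 (.node 1585 (.leaf 0) (.leaf 0)) (.node 1587 (.leaf 0) (.leaf 0))) (.node 1590 (.node 1589 (.leaf 0) (.leaf 0)) (.node 1591 (.leaf 0) (.leaf 0))))) (.node 1600 (.node 1596 (.node 1594 (.node 1593 (.leaf 0) (.leaf 0)) (.node 1595 (.leaf 0) (.leaf 0))) (.node 1598 (.node 1597 (.leaf 0) (.leaf 0)) (.node 1599 (.leaf 0) (.leaf 0)))) (.node 1604 (.node 1602 (.node 1601 (.leaf 0) (.leaf 0)) (.node 1603 (.leaf 0) (.leaf 0))) (.node 1606 (.node 1605 (.leaf 0) (.leaf 0)) (.node 1607 (.leaf 0) (.leaf 0)))))))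

def kp4PB26 : Bst := (.node 1639 (.node 1623 (.node 1615 (.node 1611 (.node 1609 (.leaf 0) (.node 1610 (.leaf 0) (.leaf 0))) (.node 1613 (.node 1612 (.leaf 0) (.leaf 0)) (.node 1614 (.leaf 0) (.leaf 0)))) (.node 1619 (.node 1617 (.node 1616 (.leaf 0) (.leaf 0)) (.node 1618 (.leaf 0) (.leaf 0))) (.node 1621 (.node 1620 (.leaf 0) (.leaf 0)) (.node 1622 (.leaf 0) (.leaf 0))))) (.node 1631 (.node 1627 (.node 1625 (.node 1624 (.leaf 0) (.leaf 0)) (.node 1626 (.leaf 0) (.leaf 0))) (.node 1629 (.node 1628 (.leaf 0) (.leaf 0)) (.node 1630 (.leaf 0) (.leaf 0)))) (.node 1635 (.node 1633 (.node 1632 (.leaf 0) (.leaf 0)) (.node 1634 (.leaf 0) (.leaf 0))) (.node 1637 (.node 1636 (.leaf 0) (.leaf 0)) (.node 1638 (.leaf 0) (.leaf 0)))))) (.node 1654 (.node 1646 (.node 1642 (.node 1640 (.leaf 0) (.node 1641 (.leaf 0) (.leaf 0))) (.node 1644 (.node 1643 (.leaf 0) (.leaf 0)) (.node 1645 (.leaf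 0) (.leaf 0)))) (.node 1650 (.node 1648 (.node 1647 (.leaf 0) (.leaf 0)) (.node 1649 (.leaf 0) (.leaf 0))) (.node 1652 (.node 1651 (.leaf 0) (.leaf 0)) (.node 1653 (.leaf 0) (.leaf 0))))) (.node 1662 (.node 1658 (.node 1656 (.node 1655 (.leaf 0) (.leaf 0)) (.node 1657 (.leaf 0) (.leaf 0))) (.node 1660 (.node 1659 (.leaf 0) (.leaf 0)) (.node 1661 (.leaf 0) (.leaf 0)))) (.node 1666 (.node 1664 (.node 1663 (.leaf 0) (.leaf 0)) (.node 1665 (.leaf 0) (.leaf 0))) (.node 1668 (.node 1667 (.leaf 0) (.leaf 0)) (.node 1669 (.leaf 0) (.leaf 0)))))))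

def kp4PB27 : Bst := (.node 1701 (.node 1685 (.node 1677 (.node 1673 (.node 1671 (.leaf 0) (.node 1672 (.leaf 0) (.leaf 0))) (.node 1675 (.node 1674 (.leaf 0) (.leaf 0)) (.node 1676 (.leaf 0) (.leaf 0)))) (.node 1681 (.node 1679 (.node 1678 (.leaf 0) (.leaf 0)) (.node 1680 (.leaf 0) (.leaf 0))) (.node 1683 (.node 1682 (.leaf 0) (.leaf 0)) (.node 1684 (.leaf 0) (.leaf 0))))) (.node 1693 (.node 1689 (.node 1687 (.node 1686 (.leaf 0) (.leaf 0)) (.node 1688 (.leaf 0) (.leaf 0))) (.node 1691 (.node 1690 (.leaf 0) (.leaf 0)) (.node 1692 (.leaf 0) (.leaf 0)))) (.node 1697 (.node 1695 (.node 1694 (.leaf 0) (.leaf 0)) (.node 1696 (.leaf 0) (.leaf 0))) (.node 1699 (.node 1698 (.leaf 0) (.leaf 0)) (.node 1700 (.leaf 0) (.leaf 0)))))) (.node 1716 (.node 1708 (.node 1704 (.node 1702 (.leaf 0) (.node 1703 (.leaf 0) (.leaf 0))) (.node 1706 (.node 1705 (.leaf 0) (.leaf 0)) (.node 1707 (.leaf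 0) (.leaf 0)))) (.node 1712 (.node 1710 (.node 1709 (.leaf 0) (.leaf 0)) (.node 1711 (.leaf 0) (.leaf 0))) (.node 1714 (.node 1713 (.leaf 0) (.leaf 0)) (.node 1715 (.leaf 0) (.leaf 0))))) (.node 1724 (.node 1720 (.node 1718 (.node 1717 (.leaf 0) (.leaf 0)) (.node 1719 (.leaf 0) (.leaf 0))) (.node 1722 (.node 1721 (.leaf 0) (.leaf 0)) (.node 1723 (.leaf 0) (.leaf 0)))) (.node 1728 (.node 1726 (.node 1725 (.leaf 0) (.leaf 0)) (.node 1727 (.leaf 0) (.leaf 0))) (.node 1730 (.node 1729 (.leaf 0) (.leaf 0)) (.node 1731 (.leaf 0) (.leaf 0)))))))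

def kp4PB28 : Bst := (.node 1763 (.node 1747 (.node 1739 (.node 1735 (.node 1733 (.leaf 0) (.node 1734 (.leaf 0) (.leaf 0))) (.node 1737 (.node 1736 (.leaf 0) (.leaf 0)) (.node 1738 (.leaf 0) (.leaf 0)))) (.node 1743 (.node 1741 (.node 1740 (.leaf 0) (.leaf 0)) (.node 1742 (.leaf 0) (.leaf 0))) (.node 1745 (.node 1744 (.leaf 0) (.leaf 0)) (.node 1746 (.leaf 0) (.leaf 0))))) (.node 1755 (.node 1751 (.node 1749 (.node 1748 (.leaf 0) (.leaf 0)) (.node 1750 (.leaf 0) (.leaf 0))) (.node 1753 (.node 1752 (.leaf 0) (.leaf 0)) (.node 1754 (.leaf 0) (.leaf 0)))) (.node 1759 (.node 1757 (.node 1756 (.leaf 0) (.leaf 0)) (.node 1758 (.leaf 0) (.leaf 0))) (.node 1761 (.node 1760 (.leaf 0) (.leaf 0)) (.node 1762 (.leaf 0) (.leaf 0)))))) (.node 1778 (.node 1770 (.node 1766 (.node 1764 (.leaf 0) (.node 1765 (.leaf 0) (.leaf 0))) (.node 1768 (.node 1767 (.leaf 0) (.leaf 0)) (.node 1769 (.leaf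 0) (.leaf 0)))) (.node 1774 (.node 1772 (.node 1771 (.leaf 0) (.leaf 0)) (.node 1773 (.leaf 0) (.leaf 0))) (.node 1776 (.node 1775 (.leaf 0) (.leaf 0)) (.node 1777 (.leaf 0) (.leaf 0))))) (.node 1786 (.node 1782 (.node 1780 (.node 1779 (.leaf 0) (.leaf 0)) (.node 1781 (.leaf 0) (.leaf 0))) (.node 1784 (.node 1783 (.leaf 0) (.leaf 0)) (.node 1785 (.leaf 0) (.leaf 0)))) (.node 1790 (.node 1788 (.node 1787 (.leaf 0) (.leaf 0)) (.node 1789 (.leaf 0) (.leaf 0))) (.node 1792 (.node 1791 (.leaf 0) (.leaf 0)) (.node 1793 (.leaf 0) (.leaf 0)))))))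

def kp4PB29 : Bst := (.node 1825 (.node 1809 (.node 1801 (.node 1797 (.node 1795 (.leaf 0) (.node 1796 (.leaf 0) (.leaf 0))) (.node 1799 (.node 1798 (.leaf 0) (.leaf 0)) (.node 1800 (.leaf 0) (.leaf 0)))) (.node 1805 (.node 1803 (.node 1802 (.leaf 0) (.leaf 0)) (.node 1804 (.leaf 0) (.leaf 0))) (.node 1807 (.node 1806 (.leaf 0) (.leaf 0)) (.node 1808 (.leaf 0) (.leaf 0))))) (.node 1817 (.node 1813 (.node 1811 (.node 1810 (.leaf 0) (.leaf 0)) (.node 1812 (.leaf 0) (.leaf 0))) (.node 1815 (.node 1814 (.leaf 0) (.leaf 0)) (.node 1816 (.leaf 0) (.leaf 0)))) (.node 1821 (.node 1819 (.node 1818 (.leaf 0) (.leaf 0)) (.node 1820 (.leaf 0) (.leaf 0))) (.node 1823 (.node 1822 (.leaf 0) (.leaf 0)) (.node 1824 (.leaf 0) (.leaf 0)))))) (.node 1840 (.node 1832 (.node 1828 (.node 1826 (.leaf 0) (.node 1827 (.leaf 0) (.leaf 0))) (.node 1830 (.node 1829 (.leaf 0) (.leaf 0)) (.node 1831 (.leaf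 0) (.leaf 0)))) (.node 1836 (.node 1834 (.node 1833 (.leaf 0) (.leaf 0)) (.node 1835 (.leaf 0) (.leaf 0))) (.node 1838 (.node 1837 (.leaf 0) (.leaf 0)) (.node 1839 (.leaf 0) (.leaf 0))))) (.node 1848 (.node 1844 (.node 1842 (.node 1841 (.leaf 0) (.leaf 0)) (.node 1843 (.leaf 0) (.leaf 0))) (.node 1846 (.node 1845 (.leaf 0) (.leaf 0)) (.node 1847 (.leaf 0) (.leaf 0)))) (.node 1852 (.node 1850 (.node 1849 (.leaf 0) (.leaf 0)) (.node 1851 (.leaf 0) (.leaf 0))) (.node 1854 (.node 1853 (.leaf 0) (.leaf 0)) (.node 1855 (.leaf 0) (.leaf 0)))))))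

def kp4PB30 : Bst := (.node 1887 (.node 1871 (.node 1863 (.node 1859 (.node 1857 (.leaf 0) (.node 1858 (.leaf 0) (.leaf 0))) (.node 1861 (.node 1860 (.leaf 0) (.leaf 0)) (.node 1862 (.leaf 0) (.leaf 0)))) (.node 1867 (.node 1865 (.node 1864 (.leaf 0) (.leaf 0)) (.node 1866 (.leaf 0) (.leaf 0))) (.node 1869 (.node 1868 (.leaf 0) (.leaf 0)) (.node 1870 (.leaf 0) (.leaf 0))))) (.node 1879 (.node 1875 (.node 1873 (.node 1872 (.leaf 0) (.leaf 0)) (.node 1874 (.leaf 0) (.leaf 0))) (.node 1877 (.node 1876 (.leaf 0) (.leaf 0)) (.node 1878 (.leaf 0) (.leaf 0)))) (.node 1883 (.node 1881 (.node 1880 (.leaf 0) (.leaf 0)) (.node 1882 (.leaf 0) (.leaf 0))) (.node 1885 (.node 1884 (.leaf 0) (.leaf 0)) (.node 1886 (.leaf 0) (.leaf 0)))))) (.node 1902 (.node 1894 (.node 1890 (.node 1888 (.leaf 0) (.node 1889 (.leaf 0) (.leaf 0))) (.node 1892 (.node 1891 (.leaf 0) (.leaf 0)) (.node 1893 (.leaf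 0) (.leaf 0)))) (.node 1898 (.node 1896 (.node 1895 (.leaf 0) (.leaf 0)) (.node 1897 (.leaf 0) (.leaf 0))) (.node 1900 (.node 1899 (.leaf 0) (.leaf 0)) (.node 1901 (.leaf 0) (.leaf 0))))) (.node 1910 (.node 1906 (.node 1904 (.node 1903 (.leaf 0) (.leaf 0)) (.node 1905 (.leaf 0) (.leaf 0))) (.node 1908 (.node 1907 (.leaf 0) (.leaf 0)) (.node 1909 (.leaf 0) (.leaf 0)))) (.node 1914 (.node 1912 (.node 1911 (.leaf 0) (.leaf 0)) (.node 1913 (.leaf 0) (.leaf 0))) (.node 1916 (.node 1915 (.leaf 0) (.leaf 0)) (.node 1917 (.leaf 0) (.leaf 0)))))))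

def kp4PB31 : Bst := (.node 1949 (.node 1933 (.node 1925 (.node 1921 (.node 1919 (.leaf 0) (.node 1920 (.leaf 0) (.leaf 0))) (.node 1923 (.node 1922 (.leaf 0) (.leaf 0)) (.node 1924 (.leaf 0) (.leaf 0)))) (.node 1929 (.node 1927 (.node 1926 (.leaf 0) (.leaf 0)) (.node 1928 (.leaf 0) (.leaf 0))) (.node 1931 (.node 1930 (.leaf 0) (.leaf 0)) (.node 1932 (.leaf 0) (.leaf 0))))) (.node 1941 (.node 1937 (.node 1935 (.node 1934 (.leaf 0) (.leaf 0)) (.node 1936 (.leaf 0) (.leaf 0))) (.node 1939 (.node 1938 (.leaf 0) (.leaf 0)) (.node 1940 (.leaf 0) (.leaf 0)))) (.node 1945 (.node 1943 (.node 1942 (.leaf 0) (.leaf 0)) (.node 1944 (.leaf 0) (.leaf 0))) (.node 1947 (.node 1946 (.leaf 0) (.leaf 0)) (.node 1948 (.leaf 0) (.leaf 0)))))) (.node 1964 (.node 1956 (.node 1952 (.node 1950 (.leaf 0) (.node 1951 (.leaf 0) (.leaf 0))) (.node 1954 (.node 1953 (.leaf 0) (.leaf 0)) (.node 1955 (.leaf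 0) (.leaf 0)))) (.node 1960 (.node 1958 (.node 1957 (.leaf 0) (.leaf 0)) (.node 1959 (.leaf 0) (.leaf 0))) (.node 1962 (.node 1961 (.leaf 0) (.leaf 0)) (.node 1963 (.leaf 0) (.leaf 0))))) (.node 1972 (.node 1968 (.node 1966 (.node 1965 (.leaf 0) (.leaf 0)) (.node 1967 (.leaf 0) (.leaf 0))) (.node 1970 (.node 1969 (.leaf 0) (.leaf 0)) (.node 1971 (.leaf 0) (.leaf 0)))) (.node 1976 (.node 1974 (.node 1973 (.leaf 0) (.leaf 0)) (.node 1975 (.leaf 0) (.leaf 0))) (.node 1978 (.node 1977 (.leaf 0) (.leaf 0)) (.node 1979 (.leaf 0) (.leaf 0)))))))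

/-- The table kp4P. -/
def kp4P : Tab := ⟨(.node 990 (.node 495 (.node 247 (.node 123 (.node 61 kp4PB0 kp4PB1) (.node 185 kp4PB2 kp4PB3)) (.node 371 (.node 309 kp4PB4 kp4PB5) (.node 433 kp4PB6 kp4PB7))) (.node 742 (.node 618 (.node 556 kp4PB8 kp4PB9) (.node 680 kp4PB10 kp4PB11)) (.node 866 (.node 804 kp4PB12 kp4PB13) (.node 928 kp4PB14 kp4PB15)))) (.node 1485 (.node 1237 (.node 1113 (.node 1051 kp4PB16 kp4PB17) (.node 1175 kp4PB18 kp4PB19)) (.node 1361 (.node 1299 kp4PB20 kp4PB21) (.node 1423 kp4PB22 kp4PB23))) (.node 1732 (.node 1608 (.node 1546 kp4PB24 kp4PB25) (.node 1670 kp4PB26 kp4PB27)) (.node 1856 (.node 1794 kp4PB28 kp4PB29) (.node 1918 kp4PB30 kp4PB31))))), 16, 4⟩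

/-- The words of `kp4`. -/
def kp4W : List (List ℕ) := [[2], [3], [4], [5], [2, 9, 3, 4, 2, 9], [3, 2, 3], [8, 3, 4, 5, 4, 1, 7, 3, 7, 2, 8, 3, 4, 7, 9, 8, 1, 5, 6, 2, 3, 9, 1, 7, 2, 6, 7, 6, 1, 5, 8, 3, 2, 1, 4, 3, 8, 9, 5, 4, 3, 8, 4, 5, 2, 3, 1, 2, 3, 8, 4, 5, 3, 4, 2, 1, 7, 6, 5, 8, 4, 5, 4, 9, 5, 8, 3, 6, 5, 7, 8, 2, 4, 7, 3, 2, 8, 3, 7, 9]]

/-- An orbit of 10 points. -/
def kp4 : Orb := ⟨10, kp4E, kp4P⟩

end Cfsg.Agent.Spor.Cos.Fi24Up
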