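import Cfsg.Agent.Lib.Spor.Cos.Cox
import Cfsg.Prelude.Def_Spor_Fi24

/-! The presentation of Fi24 by letters. -/

set_option autoImplicit false
set_option maxRecDepth 100000
set_option maxHeartbeats 4000000

open Cfsg.Spor

namespace Cfsg.Agent.Spor.Cos.Fi24Up

/-- The relations as words. -/
def words : List (List ℕ) := [[0, 1, 0, 1, 0, 1],
  [0, 2, 0, 2],
  [0, 3, 0, 3],
  [0, 4, 0, 4],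
  [0, 5, 0, 5],
  [0, 6, 0, 6],
  [0, 7, 0, 7],
  [0, 8, 0, 8],
  [0, 9, 0, 9],
  [0, 10, 0, 10],
  [0, 11, 0, 11],
  [1, 2, 1, 2, 1, 2],
  [1, 3, 1, 3],
  [1, 4, 1, 4],
  [1, 5, 1, 5],
  [1, 6, 1, 6],
  [1, 7, 1, 7],
  [1, 8, 1, 8],
  [1, 9, 1, 9],
  [1, 10, 1, 10],
  [1, 11, 1, 11],
  [2, 3, 2, 3, 2, 3],
  [2, 4, 2, 4],
  [2, 5, 2, 5],
  [2, 6, 2, 6],
  [2, 7, 2, 7],
  [2, 8, 2, 8],
  [2, 9, 2, 9],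
  [2, 10, 2, 10],
  [2, 11, 2, 11],
  [3, 4, 3, 4, 3, 4],
  [3, 5, 3, 5],
  [3, 6, 3, 6],
  [3, 7, 3, 7],
  [3, 8, 3, 8],
  [3, 9, 3, 9],
  [3, 10, 3, 10],
  [3, 11, 3, 11],
  [4, 5, 4, 5, 4, 5],
  [4, 6, 4, 6],
  [4, 7, 4, 7],
  [4, 8, 4, 8],
  [4, 9, 4, 9],
  [4, 10, 4, 10],
  [4, 11, 4, 11],
  [5, 6, 5, 6, 5, 6],
  [5, 7, 5, 7],
  [5, 8, 5, 8],
  [5, 9, 5, 9],
  [5, 10, 5, 10, 5, 10],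
  [5, 11, 5, 11],
  [6, 7, 6, 7, 6, 7],
  [6, 8, 6, 8],
  [6, 9, 6, 9],
  [6, 10, 6, 10],
  [6, 11, 6, 11],
  [7, 8, 7, 8, 7, 8],
  [7, 9, 7, 9],
  [7, 10, 7, 10],
  [7, 11, 7, 11],
  [8, 9, 8, 9, 8, 9],
  [8, 10, 8, 10],
  [8, 11, 8, 11],
  [9, 10, 9, 10],
  [9, 11, 9, 11],
  [10, 11, 10, 11, 10, 11],
  [0, 10, 7, 6, 5, 4, 3, 2, 10, 7, 6, 5, 4, 3, 2, 10, 7, 6, 5, 4, 3, 2, 10, 7, 6, 5, 4, 3, 2, 10, 7, 6, 5, 4, 3, 2, 10, 7, 6, 5, 4, 3, 2, 10, 7, 6, 5, 4, 3, 2, 10, 7, 6, 5, 4, 3, 2, 10, 7, 6, 5, 4, 3, 2],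
  [5, 4, 3, 2, 1, 0, 5, 6, 7, 8, 9, 5, 10, 11, 5, 4, 3, 2, 1, 0, 5, 6, 7, 8, 9, 5, 10, 11, 5, 4, 3, 2, 1, 0, 5, 6, 7, 8, 9, 5, 10, 11, 5, 4, 3, 2, 1, 0, 5, 6, 7, 8, 9, 5, 10, 11, 5, 4, 3, 2, 1, 0, 5, 6, 7, 8, 9, 5, 10, 11, 5, 4, 3, 2, 1, 0, 5, 6, 7, 8, 9, 5, 10, 11, 5, 4, 3, 2, 1, 0, 5, 6, 7, 8, 9, 5, 10, 11, 5, 4, 3, 2, 1, 0, 5, 6, 7, 8, 9, 5, 10, 11, 5, 4, 3, 2, 1, 0, 5, 6, 7, 8, 9, 5, 10, 11, 5, 4, 3, 2, 1, 0, 5, 6, 7, 8, 9, 5, 10, 11, 5, 4, 3, 2, 1, 0, 5, 6, 7, 8, 9, 5, 10, 11, 5, 4, 3, 2, 1, 0, 5, 6, 7, 8, 9, 5, 10, 11, 5, 4, 3, 2, 1, 0, 5, 6, 7, 8, 9, 5, 10, 11, 5, 4, 3, 2, 1, 0, 5, 6, 7, 8, 9, 5, 10, 11, 5, 4, 3, 2, 1, 0, 5, 6, 7, 8, 9, 5, 10, 11, 5, 4, 3, 2, 1, 0, 5, 6, 7, 8, 9, 5, 10, 11, 5, 4, 3, 2, 1, 0, 5, 6, 7, 8, 9, 5, 10, 11]]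

/-- The generators in order. -/
def alph : List Spor.Fi24.Gen := [.l, .k, .a, .b, .c, .d, .e, .f, .g, .j, .h, .i]

/-- The place of a generator. -/
def num : Spor.Fi24.Gen → ℕ
  | .l => 0
  | .k => 1
  | .a => 2
  | .b => 3
  | .c => 4
  | .d => 5
  | .e => 6
  | .f => 7
  | .g => 8
  | .j => 9
  | .h => 10
  | .i => 11

theorem pres : Pres Spor.Fi24.edges Spor.Fi24.extra alph num words where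
  index := by intro a; cases a <;> rfl
  node := by intro a; cases a <;> decide
  order := rfl
  fromRels := by decide +kernel
  toBase := by decide +kernel

/-- The generators by number. -/
noncomputable def g : ℕ → Spor.Fi24 := gen Spor.Fi24.edges Spor.Fi24.extra alph

theorem g_sq (s : ℕ) : g s * g s = 1 := pres.inv s

theorem g_words : ∀ w ∈ words, ev g w = 1 := fun _ hw => pres.ev_base hw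

theorem g_gen : Subgroup.closure {x | ∃ s < 12, g s = x} = ⊤ := pres.closure_gen

end Cfsg.Agent.Spor.Cos.Fi24Up
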