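import Cfsg.Agent.Lib.Spor.Cos.Orb

/-! Data of an orbit. -/

set_option autoImplicit false
set_option maxRecDepth 100000
set_option maxHeartbeats 4000000

namespace Cfsg.Agent.Spor.Cos.Fi24Up


/-- The table q3E. -/
def q3E : Tab := ⟨(.node 2 (.node 1 (.leaf 0xb003e00050009004d00000009002100050008009500010008001700050006004600010006002000040005001800050004003900040003001f00030003001900040002001e00020002001a00010001001b00000000001c000000000005) (.leaf 0x50019008500040019001300010018020e00040016009400040015014d00050014008a0001001400140004001200a600040011009600050010008e0005000f008f0002000f00150004000e00a50005000d00570005000b00930002000b0016)) (.node 3 (.leaf 0x1002a02f800030027015800020026010a0000002601dd00010025014400040024008700030023015700000022018a00020021016a00010020010b0004001f00860005001e007f0002001d01560001001c01890001001b016b0004001a0090) (.node 4 (.leaf 0x3003b02a000030039024f00010039040b0003003601410001003602a10003003502500002003404130003003201400003003101080002003001420002002f031a0000002f030e0003002d01090002002c02d10002002b02240000002b0143) (.leaf 0x46040f00010045040e00040043024c00040040040d00020040024d0002003f03300004003d040c0003003d024e)))),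 48, 4⟩

def q3PB0 : Bst := (.node 34 (.node 17 (.node 8 (.node 4 (.node 2 (.node 1 (.leaf 0) (.leaf 0x60004000000010002000300050008000b001000140019001e000000000000)) (.node 3 (.leaf 0xd0009) (.leaf 0xf00000000000000000007000000000000000000000000000000000000))) (.node 6 (.node 5 (.leaf 0xe000000000000000000000000000a000000000000000000000000) (.leaf 0x120000000000000000000000000000)) (.node 7 (.leaf 0) (.leaf 0x24000000000000000000000000000000000000000000000000000000000000)))) (.node 12 (.node 10 (.node 9 (.leaf 0x150016000000000000001a00000000002a0025001f00000000000000000000) (.leaf 0x17000c001c0011000000000020)) (.node 11 (.leaf 0x18001300000000000000000000) (.leaf 0))) (.node 14 (.node 13 (.leaf 0) (.leaf 0)) (.node 15 (.leaf 0) (.node 16 (.leaf 0) (.leaf 0x26002d0033003700000000000000000000000000000000)))))) (.node 25 (.node 21 (.node 19 (.node 18 (.leaf 0) (.leaf 0)) (.node 20 (.leaf 0) (.leaf 0x1b00000000000000000000000000000000002b00300036003c0038))) (.node 23 (.node 22 (.leaf 0x2e00290023000000000000000000000000) (.leaf 0x2100270000000000000000000000000000000000000000)) (.node 24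 (.leaf 0) (.leaf 0x280022000000000000000000000000000000000000)))) (.node 29 (.node 27 (.node 26 (.leaf 0) (.leaf 0)) (.node 28 (.leaf 0) (.leaf 0))) (.node 31 (.node 30 (.leaf 0x2c0000000000000000000000000000000000000000000000000000) (.leaf 0)) (.node 32 (.leaf 0) (.node 33 (.leaf 0x1d00000000000000000000000000000000000000000000000000000000) (.leaf 0))))))) (.node 51 (.node 42 (.node 38 (.node 36 (.node 35 (.leaf 0x310000000000000000) (.leaf 0)) (.node 37 (.leaf 0x3e004000430045000000000000000000000000000000000000000000000000) (.leaf 0x3a))) (.node 40 (.node 39 (.leaf 0) (.leaf 0)) (.node 41 (.leaf 0) (.leaf 0)))) (.node 46 (.node 44 (.node 43 (.leaf 0x3b003f) (.leaf 0)) (.node 45 (.leaf 0) (.leaf 0x320000))) (.node 48 (.node 47 (.leaf 0) (.leaf 0x2f00000000000000000000000000000000)) (.node 49 (.leaf 0x3400000000000000000000000000000000000000000000000000000000) (.node 50 (.leaf 0x350000000000000000000000000000000000000000) (.leaf 0)))))) (.node 59 (.node 55 (.node 53 (.node 52 (.leaf 0x42) (.leaf 0)) (.node 54 (.leaf 0) (.leaf 0))) (.node 57 (.node 56 (.leaf 0) (.leaf 0)) (.node 58 (.leaf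 0) (.leaf 0)))) (.node 63 (.node 61 (.node 60 (.leaf 0) (.leaf 0)) (.node 62 (.leaf 0) (.leaf 0))) (.node 65 (.node 64 (.leaf 0) (.leaf 0x47004600440041003d00000000000000000000000000000000000000000000)) (.node 66 (.leaf 0x39000000000000) (.node 67 (.leaf 0) (.leaf 0))))))))

/-- The table q3P. -/
def q3P : Tab := ⟨q3PB0, 16, 4⟩

/-- The words of `q3`. -/
def q3W : List (List ℕ) := [[4], [5], [6], [7], [8], [9]]

/-- An orbit of 72 points. -/
def q3 : Orb := ⟨72, q3E, q3P⟩

end Cfsg.Agent.Spor.Cos.Fi24Up
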