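import Cfsg.Agent.Lib.Spor.Cos.Fi24Up.Q4Data
import Cfsg.Agent.Lib.Spor.Cos.Fi24Up.ActQData

/-! Checks of an orbit. -/

set_option autoImplicit false
set_option maxRecDepth 100000
set_option maxHeartbeats 4000000

namespace Cfsg.Agent.Spor.Cos.Fi24Up

theorem q4_ents0 : allBlock (q4.chkEnt actQ q4W 7) 20 1024 0 = true := by decide +kernel

theorem q4_ents : ∀ i < 20, (q4.chkEnt actQ q4W 7) i = true :=
  of_blocks (size := 1024) (b := 1) (by decide) (by decide) fun j hj => by
    interval_cases j
    · exact q4_ents0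

theorem q4_ok : q4.Ok actQ q4W 7 where
  letters := by decide +kernel
  pos := by decide +kernel
  ents := q4_ents

end Cfsg.Agent.Spor.Cos.Fi24Up
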