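import Cfsg.Agent.Lib.Spor.Cos.Fi24Up.Q5Data
import Cfsg.Agent.Lib.Spor.Cos.Fi24Up.ActQData

/-! Checks of an orbit. -/

set_option autoImplicit false
set_option maxRecDepth 100000
set_option maxHeartbeats 4000000

namespace Cfsg.Agent.Spor.Cos.Fi24Up

theorem q5_ents0 : allBlock (q5.chkEnt actQ q5W 8) 9 1024 0 = true := by decide +kernel

theorem q5_ents : ∀ i < 9, (q5.chkEnt actQ q5W 8) i = true :=
  of_blocks (size := 1024) (b := 1) (by decide) (by decide) fun j hj => by
    interval_cases j
    · exact q5_ents0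

theorem q5_ok : q5.Ok actQ q5W 8 where
  letters := by decide +kernel
  pos := by decide +kernel
  ents := q5_ents

end Cfsg.Agent.Spor.Cos.Fi24Up
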