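import Cfsg.Agent.Lib.Spor.Cos.Orb

/-! Data of an orbit. -/

set_option autoImplicit false
set_option maxRecDepth 100000
set_option maxHeartbeats 4000000

namespace Cfsg.Agent.Spor.Cos.Fi24Up


/-- The table q6E. -/
def q6E : Tab := ⟨(.leaf 0x10001004c00010000003d00000000002d00000000000a), 48, 4⟩

def q6PB0 : Bst := (.node 34 (.node 17 (.node 8 (.node 4 (.node 2 (.node 1 (.leaf 0) (.leaf 0)) (.node 3 (.leaf 0x10000000000000000000000000000000000000000000000000000) (.leaf 0x20000000000000000000000000000000000000000000000000000))) (.node 6 (.node 5 (.leaf 0x3000000000000000000000000000000000000000000000000) (.leaf 0)) (.node 7 (.leaf 0) (.leaf 0)))) (.node 12 (.node 10 (.node 9 (.leaf 0) (.leaf 0)) (.node 11 (.leaf 0) (.leaf 0))) (.node 14 (.node 13 (.leaf 0) (.leaf 0)) (.node 15 (.leaf 0) (.node 16 (.leaf 0) (.leaf 0)))))) (.node 25 (.node 21 (.node 19 (.node 18 (.leaf 0) (.leaf 0)) (.node 20 (.leaf 0) (.leaf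 0))) (.node 23 (.node 22 (.leaf 0) (.leaf 0)) (.node 24 (.leaf 0) (.leaf 0)))) (.node 29 (.node 27 (.node 26 (.leaf 0) (.leaf 0)) (.node 28 (.leaf 0) (.leaf 0))) (.node 31 (.node 30 (.leaf 0) (.leaf 0)) (.node 32 (.leaf 0) (.node 33 (.leaf 0) (.leaf 0))))))) (.node 51 (.node 42 (.node 38 (.node 36 (.node 35 (.leaf 0) (.leaf 0)) (.node 37 (.leaf 0) (.leaf 0))) (.node 40 (.node 39 (.leaf 0) (.leaf 0)) (.node 41 (.leaf 0) (.leaf 0)))) (.node 46 (.node 44 (.node 43 (.leaf 0) (.leaf 0)) (.node 45 (.leaf 0) (.leaf 0))) (.node 48 (.node 47 (.leaf 0) (.leaf 0)) (.node 49 (.leaf 0) (.node 50 (.leaf 0) (.leaf 0)))))) (.node 59 (.node 55 (.node 53 (.node 52 (.leaf 0) (.leaf 0)) (.node 54 (.leaf 0) (.leaf 0))) (.node 57 (.node 56 (.leaf 0) (.leaf 0)) (.node 58 (.leaf 0) (.leaf 0)))) (.node 63 (.node 61 (.node 60 (.leaf 0) (.leaf 0)) (.node 62 (.leaf 0) (.leaf 0))) (.node 65 (.node 64 (.leaf 0) (.leaf 0)) (.node 66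 (.leaf 0) (.node 67 (.leaf 0) (.leaf 0))))))))

/-- The table q6P. -/
def q6P : Tab := ⟨q6PB0, 16, 4⟩

/-- The words of `q6`. -/
def q6W : List (List ℕ) := [[7], [9]]

/-- An orbit of 4 points. -/
def q6 : Orb := ⟨4, q6E, q6P⟩

end Cfsg.Agent.Spor.Cos.Fi24Up
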