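import Cfsg.Agent.Lib.Spor.Cos.Fi24Up.T120Part0

/-! A checked coset enumeration. -/

set_option autoImplicit false
set_option maxRecDepth 100000
set_option maxHeartbeats 4000000

namespace Cfsg.Agent.Spor.Cos.Fi24Up

theorem t120_def0 : allBlock t120.chkDef 267 2048 0 = true := by decide +kernel

theorem t120_defs : ∀ i, i + 1 < t120.M → t120.chkDef i = true := by
  intro i hi
  change i + 1 < 268 at hi
  refine of_allBlock (n := 267) (size := 2048) (by decide) (fun j hj => ?_) (by omega)
  have hj' : j < 1 := by omega
  interval_cases j
  · exact t120_def0

theorem t120_facts : ∀ i, t120.M ≤ i + 1 → i < t120.nF → ∃ J, t120.chkFact i J = true :=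
  t120.facts_of_covers (t120.covers_of_part _ _ _ t120_part0) rfl rfl

theorem t120_final0 : allBlock t120.chkFinal 1080 2048 0 = true := by decide +kernel

theorem t120_checks : t120.Checks where
  pos := by decide +kernel
  defs := t120_defs
  facts := t120_facts
  final := by
    intro k hk
    change k < 120 * 9 at hk
    refine of_allBlock (n := 1080) (size := 2048) (by decide) (fun j hj => ?_) (by omega)
    have hj' : j < 1 := by omega
    interval_cases j
    · exact t120_final0

theorem t120_derived : t120.rels.all (derivedOk t120.n t120Base) = true := by decide +kernel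

end Cfsg.Agent.Spor.Cos.Fi24Up
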