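import Cfsg.Agent.Lib.Spor.Cos.Fi24Up.T56Part0

/-! A checked coset enumeration. -/

set_option autoImplicit false
set_option maxRecDepth 100000
set_option maxHeartbeats 4000000

namespace Cfsg.Agent.Spor.Cos.Fi24Up

theorem t56_def0 : allBlock t56.chkDef 110 2048 0 = true := by decide +kernel

theorem t56_defs : ∀ i, i + 1 < t56.M → t56.chkDef i = true := by
  intro i hi
  change i + 1 < 111 at hi
  refine of_allBlock (n := 110) (size := 2048) (by decide) (fun j hj => ?_) (by omega)
  have hj' : j < 1 := by omega
  interval_cases j
  · exact t56_def0

theorem t56_facts : ∀ i, t56.M ≤ i + 1 → i < t56.nF → ∃ J, t56.chkFact i J = true :=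
  t56.facts_of_covers (t56.covers_of_part _ _ _ t56_part0) rfl rfl

theorem t56_final0 : allBlock t56.chkFinal 448 2048 0 = true := by decide +kernel

theorem t56_checks : t56.Checks where
  pos := by decide +kernel
  defs := t56_defs
  facts := t56_facts
  final := by
    intro k hk
    change k < 56 * 8 at hk
    refine of_allBlock (n := 448) (size := 2048) (by decide) (fun j hj => ?_) (by omega)
    have hj' : j < 1 := by omega
    interval_cases j
    · exact t56_final0

theorem t56_derived : t56.rels.all (derivedOk t56.n t56Base) = true := by decide +kernel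

end Cfsg.Agent.Spor.Cos.Fi24Up
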