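import Cfsg.Agent.Lib.Spor.Cos.Fi24Up.TopData

/-! Checks of the final tables of a coset enumeration. -/

set_option autoImplicit false
set_option Elab.async false
set_option maxRecDepth 100000
set_option maxHeartbeats 4000000

namespace Cfsg.Agent.Spor.Cos.Fi24Up

theorem top_final0 : allBlock top.chkFinal 284310 2048 0 = true := by decide +kernel

theorem top_final1 : allBlock top.chkFinal 284310 2048 1 = true := by decide +kernel

theorem top_final2 : allBlock top.chkFinal 284310 2048 2 = true := by decide +kernel

theorem top_final3 : allBlock top.chkFinal 284310 2048 3 = true := by decide +kernel

theorem top_final4 : allBlock top.chkFinal 284310 2048 4 = true := by decide +kernel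

theorem top_final5 : allBlock top.chkFinal 284310 2048 5 = true := by decide +kernel

theorem top_final6 : allBlock top.chkFinal 284310 2048 6 = true := by decide +kernel

theorem top_final7 : allBlock top.chkFinal 284310 2048 7 = true := by decide +kernel

theorem top_final8 : allBlock top.chkFinal 284310 2048 8 = true := by decide +kernel

theorem top_final9 : allBlock top.chkFinal 284310 2048 9 = true := by decide +kernel

theorem top_final10 : allBlock top.chkFinal 284310 2048 10 = true := by decide +kernel

theorem top_final11 : allBlock top.chkFinal 284310 2048 11 = true := by decide +kernel

theorem top_final12 : allBlock top.chkFinal 284310 2048 12 = true := by decide +kernel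

theorem top_final13 : allBlock top.chkFinal 284310 2048 13 = true := by decide +kernel

theorem top_final14 : allBlock top.chkFinal 284310 2048 14 = true := by decide +kernel

theorem top_final15 : allBlock top.chkFinal 284310 2048 15 = true := by decide +kernel

theorem top_final16 : allBlock top.chkFinal 284310 2048 16 = true := by decide +kernel

theorem top_final17 : allBlock top.chkFinal 284310 2048 17 = true := by decide +kernel

theorem top_final18 : allBlock top.chkFinal 284310 2048 18 = true := by decide +kernel

theorem top_final19 : allBlock top.chkFinal 284310 2048 19 = true := by decide +kernel

theorem top_final20 : allBlock top.chkFinal 284310 2048 20 = true := by decide +kernel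

theorem top_final21 : allBlock top.chkFinal 284310 2048 21 = true := by decide +kernel

theorem top_final22 : allBlock top.chkFinal 284310 2048 22 = true := by decide +kernel

theorem top_final23 : allBlock top.chkFinal 284310 2048 23 = true := by decide +kernel

theorem top_final24 : allBlock top.chkFinal 284310 2048 24 = true := by decide +kernel

theorem top_final25 : allBlock top.chkFinal 284310 2048 25 = true := by decide +kernel

theorem top_final26 : allBlock top.chkFinal 284310 2048 26 = true := by decide +kernel

theorem top_final27 : allBlock top.chkFinal 284310 2048 27 = true := by decide +kernel

theorem top_final28 : allBlock top.chkFinal 284310 2048 28 = true := by decide +kernel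

theorem top_final29 : allBlock top.chkFinal 284310 2048 29 = true := by decide +kernel

theorem top_final30 : allBlock top.chkFinal 284310 2048 30 = true := by decide +kernel

theorem top_final31 : allBlock top.chkFinal 284310 2048 31 = true := by decide +kernel

theorem top_final32 : allBlock top.chkFinal 284310 2048 32 = true := by decide +kernel

theorem top_final33 : allBlock top.chkFinal 284310 2048 33 = true := by decide +kernel

theorem top_final34 : allBlock top.chkFinal 284310 2048 34 = true := by decide +kernel

theorem top_final35 : allBlock top.chkFinal 284310 2048 35 = true := by decide +kernel

theorem top_final36 : allBlock top.chkFinal 284310 2048 36 = true := by decide +kernel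

theorem top_final37 : allBlock top.chkFinal 284310 2048 37 = true := by decide +kernel

theorem top_final38 : allBlock top.chkFinal 284310 2048 38 = true := by decide +kernel

theorem top_final39 : allBlock top.chkFinal 284310 2048 39 = true := by decide +kernel

theorem top_final40 : allBlock top.chkFinal 284310 2048 40 = true := by decide +kernel

theorem top_final41 : allBlock top.chkFinal 284310 2048 41 = true := by decide +kernel

theorem top_final42 : allBlock top.chkFinal 284310 2048 42 = true := by decide +kernel

theorem top_final43 : allBlock top.chkFinal 284310 2048 43 = true := by decide +kernel

theorem top_final44 : allBlock top.chkFinal 284310 2048 44 = true := by decide +kernel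

theorem top_final45 : allBlock top.chkFinal 284310 2048 45 = true := by decide +kernel

theorem top_final46 : allBlock top.chkFinal 284310 2048 46 = true := by decide +kernel

theorem top_final47 : allBlock top.chkFinal 284310 2048 47 = true := by decide +kernel

theorem top_final48 : allBlock top.chkFinal 284310 2048 48 = true := by decide +kernel

theorem top_final49 : allBlock top.chkFinal 284310 2048 49 = true := by decide +kernel

theorem top_final50 : allBlock top.chkFinal 284310 2048 50 = true := by decide +kernel

theorem top_final51 : allBlock top.chkFinal 284310 2048 51 = true := by decide +kernel

theorem top_final52 : allBlock top.chkFinal 284310 2048 52 = true := by decide +kernel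

theorem top_final53 : allBlock top.chkFinal 284310 2048 53 = true := by decide +kernel

theorem top_final54 : allBlock top.chkFinal 284310 2048 54 = true := by decide +kernel

theorem top_final55 : allBlock top.chkFinal 284310 2048 55 = true := by decide +kernel

theorem top_final56 : allBlock top.chkFinal 284310 2048 56 = true := by decide +kernel

theorem top_final57 : allBlock top.chkFinal 284310 2048 57 = true := by decide +kernel

theorem top_final58 : allBlock top.chkFinal 284310 2048 58 = true := by decide +kernel

theorem top_final59 : allBlock top.chkFinal 284310 2048 59 = true := by decide +kernel

theorem top_final60 : allBlock top.chkFinal 284310 2048 60 = true := by decide +kernel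

theorem top_final61 : allBlock top.chkFinal 284310 2048 61 = true := by decide +kernel

theorem top_final62 : allBlock top.chkFinal 284310 2048 62 = true := by decide +kernel

theorem top_final63 : allBlock top.chkFinal 284310 2048 63 = true := by decide +kernel

theorem top_final64 : allBlock top.chkFinal 284310 2048 64 = true := by decide +kernel

theorem top_final65 : allBlock top.chkFinal 284310 2048 65 = true := by decide +kernel

theorem top_final66 : allBlock top.chkFinal 284310 2048 66 = true := by decide +kernel

theorem top_final67 : allBlock top.chkFinal 284310 2048 67 = true := by decide +kernel

theorem top_final68 : allBlock top.chkFinal 284310 2048 68 = true := by decide +kernel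

theorem top_final69 : allBlock top.chkFinal 284310 2048 69 = true := by decide +kernel

theorem top_final70 : allBlock top.chkFinal 284310 2048 70 = true := by decide +kernel

theorem top_final71 : allBlock top.chkFinal 284310 2048 71 = true := by decide +kernel

theorem top_final72 : allBlock top.chkFinal 284310 2048 72 = true := by decide +kernel

theorem top_final73 : allBlock top.chkFinal 284310 2048 73 = true := by decide +kernel

theorem top_final74 : allBlock top.chkFinal 284310 2048 74 = true := by decide +kernel

theorem top_final75 : allBlock top.chkFinal 284310 2048 75 = true := by decide +kernel

theorem top_final76 : allBlock top.chkFinal 284310 2048 76 = true := by decide +kernel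

theorem top_final77 : allBlock top.chkFinal 284310 2048 77 = true := by decide +kernel

theorem top_final78 : allBlock top.chkFinal 284310 2048 78 = true := by decide +kernel

theorem top_final79 : allBlock top.chkFinal 284310 2048 79 = true := by decide +kernel

theorem top_final80 : allBlock top.chkFinal 284310 2048 80 = true := by decide +kernel

theorem top_final81 : allBlock top.chkFinal 284310 2048 81 = true := by decide +kernel

theorem top_final82 : allBlock top.chkFinal 284310 2048 82 = true := by decide +kernel

theorem top_final83 : allBlock top.chkFinal 284310 2048 83 = true := by decide +kernel

theorem top_final84 : allBlock top.chkFinal 284310 2048 84 = true := by decide +kernel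

theorem top_final85 : allBlock top.chkFinal 284310 2048 85 = true := by decide +kernel

theorem top_final86 : allBlock top.chkFinal 284310 2048 86 = true := by decide +kernel

theorem top_final87 : allBlock top.chkFinal 284310 2048 87 = true := by decide +kernel

theorem top_final88 : allBlock top.chkFinal 284310 2048 88 = true := by decide +kernel

theorem top_final89 : allBlock top.chkFinal 284310 2048 89 = true := by decide +kernel

theorem top_final90 : allBlock top.chkFinal 284310 2048 90 = true := by decide +kernel

theorem top_final91 : allBlock top.chkFinal 284310 2048 91 = true := by decide +kernel

theorem top_final92 : allBlock top.chkFinal 284310 2048 92 = true := by decide +kernel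

theorem top_final93 : allBlock top.chkFinal 284310 2048 93 = true := by decide +kernel

theorem top_final94 : allBlock top.chkFinal 284310 2048 94 = true := by decide +kernel

theorem top_final95 : allBlock top.chkFinal 284310 2048 95 = true := by decide +kernel

theorem top_final96 : allBlock top.chkFinal 284310 2048 96 = true := by decide +kernel

theorem top_final97 : allBlock top.chkFinal 284310 2048 97 = true := by decide +kernel

theorem top_final98 : allBlock top.chkFinal 284310 2048 98 = true := by decide +kernel

theorem top_final99 : allBlock top.chkFinal 284310 2048 99 = true := by decide +kernel

theorem top_final100 : allBlock top.chkFinal 284310 2048 100 = true := by decide +kernel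

theorem top_final101 : allBlock top.chkFinal 284310 2048 101 = true := by decide +kernel

theorem top_final102 : allBlock top.chkFinal 284310 2048 102 = true := by decide +kernel

theorem top_final103 : allBlock top.chkFinal 284310 2048 103 = true := by decide +kernel

theorem top_final104 : allBlock top.chkFinal 284310 2048 104 = true := by decide +kernel

theorem top_final105 : allBlock top.chkFinal 284310 2048 105 = true := by decide +kernel

theorem top_final106 : allBlock top.chkFinal 284310 2048 106 = true := by decide +kernel

theorem top_final107 : allBlock top.chkFinal 284310 2048 107 = true := by decide +kernel

theorem top_final108 : allBlock top.chkFinal 284310 2048 108 = true := by decide +kernel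

theorem top_final109 : allBlock top.chkFinal 284310 2048 109 = true := by decide +kernel

theorem top_final110 : allBlock top.chkFinal 284310 2048 110 = true := by decide +kernel

theorem top_final111 : allBlock top.chkFinal 284310 2048 111 = true := by decide +kernel

theorem top_final112 : allBlock top.chkFinal 284310 2048 112 = true := by decide +kernel

theorem top_final113 : allBlock top.chkFinal 284310 2048 113 = true := by decide +kernel

theorem top_final114 : allBlock top.chkFinal 284310 2048 114 = true := by decide +kernel

theorem top_final115 : allBlock top.chkFinal 284310 2048 115 = true := by decide +kernel

theorem top_final116 : allBlock top.chkFinal 284310 2048 116 = true := by decide +kernel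

theorem top_final117 : allBlock top.chkFinal 284310 2048 117 = true := by decide +kernel

theorem top_final118 : allBlock top.chkFinal 284310 2048 118 = true := by decide +kernel

theorem top_final119 : allBlock top.chkFinal 284310 2048 119 = true := by decide +kernel

theorem top_final120 : allBlock top.chkFinal 284310 2048 120 = true := by decide +kernel

theorem top_final121 : allBlock top.chkFinal 284310 2048 121 = true := by decide +kernel

theorem top_final122 : allBlock top.chkFinal 284310 2048 122 = true := by decide +kernel

theorem top_final123 : allBlock top.chkFinal 284310 2048 123 = true := by decide +kernel

theorem top_final124 : allBlock top.chkFinal 284310 2048 124 = true := by decide +kernel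

theorem top_final125 : allBlock top.chkFinal 284310 2048 125 = true := by decide +kernel

theorem top_final126 : allBlock top.chkFinal 284310 2048 126 = true := by decide +kernel

theorem top_final127 : allBlock top.chkFinal 284310 2048 127 = true := by decide +kernel

theorem top_final128 : allBlock top.chkFinal 284310 2048 128 = true := by decide +kernel

theorem top_final129 : allBlock top.chkFinal 284310 2048 129 = true := by decide +kernel

theorem top_final130 : allBlock top.chkFinal 284310 2048 130 = true := by decide +kernel

theorem top_final131 : allBlock top.chkFinal 284310 2048 131 = true := by decide +kernel

theorem top_final132 : allBlock top.chkFinal 284310 2048 132 = true := by decide +kernel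

theorem top_final133 : allBlock top.chkFinal 284310 2048 133 = true := by decide +kernel

theorem top_final134 : allBlock top.chkFinal 284310 2048 134 = true := by decide +kernel

theorem top_final135 : allBlock top.chkFinal 284310 2048 135 = true := by decide +kernel

theorem top_final136 : allBlock top.chkFinal 284310 2048 136 = true := by decide +kernel

theorem top_final137 : allBlock top.chkFinal 284310 2048 137 = true := by decide +kernel

theorem top_final138 : allBlock top.chkFinal 284310 2048 138 = true := by decide +kernel

theorem top_derived : top.rels.all (derivedOk top.n topBase) = true := by decide +kernel

end Cfsg.Agent.Spor.Cos.Fi24Up
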