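import Cfsg.Agent.Lib.Spor.Cos.Fi24Up.TopDefs
import Cfsg.Agent.Lib.Spor.Cos.Fi24Up.TopFinals
import Cfsg.Agent.Lib.Spor.Cos.Fi24Up.TopPart0
import Cfsg.Agent.Lib.Spor.Cos.Fi24Up.TopPart1
import Cfsg.Agent.Lib.Spor.Cos.Fi24Up.TopPart2
import Cfsg.Agent.Lib.Spor.Cos.Fi24Up.TopPart3
import Cfsg.Agent.Lib.Spor.Cos.Fi24Up.TopPart4
import Cfsg.Agent.Lib.Spor.Cos.Fi24Up.TopPart5
import Cfsg.Agent.Lib.Spor.Cos.Fi24Up.TopPart6
import Cfsg.Agent.Lib.Spor.Cos.Fi24Up.TopPart7
import Cfsg.Agent.Lib.Spor.Cos.Fi24Up.TopPart8
import Cfsg.Agent.Lib.Spor.Cos.Fi24Up.TopPart9

/-! A checked coset enumeration. -/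

set_option autoImplicit false
set_option Elab.async false
set_option maxRecDepth 100000
set_option maxHeartbeats 4000000

namespace Cfsg.Agent.Spor.Cos.Fi24Up

theorem top_defs : ∀ i, i + 1 < top.M → top.chkDef i = true := by
  intro i hi
  change i + 1 < 66544 at hi
  refine of_allBlock (n := 66543) (size := 2048) (by decide) (fun j hj => ?_) (by omega)
  have hj' : j < 33 := by omega
  interval_cases j
  · exact top_def0
  · exact top_def1
  · exact top_def2
  · exact top_def3
  · exact top_def4
  · exact top_def5
  · exact top_def6
  · exact top_def7
  · exact top_def8
  · exact top_def9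
  · exact top_def10
  · exact top_def11
  · exact top_def12
  · exact top_def13
  · exact top_def14
  · exact top_def15
  · exact top_def16
  · exact top_def17
  · exact top_def18
  · exact top_def19
  · exact top_def20
  · exact top_def21
  · exact top_def22
  · exact top_def23
  · exact top_def24
  · exact top_def25
  · exact top_def26
  · exact top_def27
  · exact top_def28
  · exact top_def29
  · exact top_def30
  · exact top_def31
  · exact top_def32

theorem top_cov0 : top.Covers 66543 69142 := top.covers_of_part _ _ _ top_part0

theorem top_cov1 : top.Covers 66543 71731 :=
  Log.Covers.trans top top_cov0 (top.covers_of_part _ _ _ top_part1)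

theorem top_cov2 : top.Covers 66543 74327 :=
  Log.Covers.trans top top_cov1 (top.covers_of_part _ _ _ top_part2)

theorem top_cov3 : top.Covers 66543 76927 :=
  Log.Covers.trans top top_cov2 (top.covers_of_part _ _ _ top_part3)

theorem top_cov4 : top.Covers 66543 79519 :=
  Log.Covers.trans top top_cov3 (top.covers_of_part _ _ _ top_part4)

theorem top_cov5 : top.Covers 66543 82248 :=
  Log.Covers.trans top top_cov4 (top.covers_of_part _ _ _ top_part5)

theorem top_cov6 : top.Covers 66543 84836 :=
  Log.Covers.trans top top_cov5 (top.covers_of_part _ _ _ top_part6)

theorem top_cov7 : top.Covers 66543 87403 :=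
  Log.Covers.trans top top_cov6 (top.covers_of_part _ _ _ top_part7)

theorem top_cov8 : top.Covers 66543 89978 :=
  Log.Covers.trans top top_cov7 (top.covers_of_part _ _ _ top_part8)

theorem top_cov9 : top.Covers 66543 92542 :=
  Log.Covers.trans top top_cov8 (top.covers_of_part _ _ _ top_part9)

theorem top_cov10 : top.Covers 66543 95128 :=
  Log.Covers.trans top top_cov9 (top.covers_of_part _ _ _ top_part10)

theorem top_cov11 : top.Covers 66543 97725 :=
  Log.Covers.trans top top_cov10 (top.covers_of_part _ _ _ top_part11)

theorem top_cov12 : top.Covers 66543 100312 :=
  Log.Covers.trans top top_cov11 (top.covers_of_part _ _ _ top_part12)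

theorem top_cov13 : top.Covers 66543 102898 :=
  Log.Covers.trans top top_cov12 (top.covers_of_part _ _ _ top_part13)

theorem top_cov14 : top.Covers 66543 105480 :=
  Log.Covers.trans top top_cov13 (top.covers_of_part _ _ _ top_part14)

theorem top_cov15 : top.Covers 66543 108058 :=
  Log.Covers.trans top top_cov14 (top.covers_of_part _ _ _ top_part15)

theorem top_cov16 : top.Covers 66543 110634 :=
  Log.Covers.trans top top_cov15 (top.covers_of_part _ _ _ top_part16)

theorem top_cov17 : top.Covers 66543 113227 :=
  Log.Covers.trans top top_cov16 (top.covers_of_part _ _ _ top_part17)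

theorem top_cov18 : top.Covers 66543 115816 :=
  Log.Covers.trans top top_cov17 (top.covers_of_part _ _ _ top_part18)

theorem top_cov19 : top.Covers 66543 118385 :=
  Log.Covers.trans top top_cov18 (top.covers_of_part _ _ _ top_part19)

theorem top_cov20 : top.Covers 66543 120976 :=
  Log.Covers.trans top top_cov19 (top.covers_of_part _ _ _ top_part20)

theorem top_cov21 : top.Covers 66543 123563 :=
  Log.Covers.trans top top_cov20 (top.covers_of_part _ _ _ top_part21)

theorem top_cov22 : top.Covers 66543 126144 :=
  Log.Covers.trans top top_cov21 (top.covers_of_part _ _ _ top_part22)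

theorem top_cov23 : top.Covers 66543 128719 :=
  Log.Covers.trans top top_cov22 (top.covers_of_part _ _ _ top_part23)

theorem top_cov24 : top.Covers 66543 131294 :=
  Log.Covers.trans top top_cov23 (top.covers_of_part _ _ _ top_part24)

theorem top_cov25 : top.Covers 66543 133884 :=
  Log.Covers.trans top top_cov24 (top.covers_of_part _ _ _ top_part25)

theorem top_cov26 : top.Covers 66543 136448 :=
  Log.Covers.trans top top_cov25 (top.covers_of_part _ _ _ top_part26)

theorem top_cov27 : top.Covers 66543 139431 :=
  Log.Covers.trans top top_cov26 (top.covers_of_part _ _ _ top_part27)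

theorem top_cov28 : top.Covers 66543 142622 :=
  Log.Covers.trans top top_cov27 (top.covers_of_part _ _ _ top_part28)

theorem top_cov29 : top.Covers 66543 145838 :=
  Log.Covers.trans top top_cov28 (top.covers_of_part _ _ _ top_part29)

theorem top_cov30 : top.Covers 66543 149182 :=
  Log.Covers.trans top top_cov29 (top.covers_of_part _ _ _ top_part30)

theorem top_cov31 : top.Covers 66543 151781 :=
  Log.Covers.trans top top_cov30 (top.covers_of_part _ _ _ top_part31)

theorem top_cov32 : top.Covers 66543 154310 :=
  Log.Covers.trans top top_cov31 (top.covers_of_part _ _ _ top_part32)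

theorem top_cov33 : top.Covers 66543 156871 :=
  Log.Covers.trans top top_cov32 (top.covers_of_part _ _ _ top_part33)

theorem top_cov34 : top.Covers 66543 159419 :=
  Log.Covers.trans top top_cov33 (top.covers_of_part _ _ _ top_part34)

theorem top_cov35 : top.Covers 66543 161999 :=
  Log.Covers.trans top top_cov34 (top.covers_of_part _ _ _ top_part35)

theorem top_cov36 : top.Covers 66543 164570 :=
  Log.Covers.trans top top_cov35 (top.covers_of_part _ _ _ top_part36)

theorem top_cov37 : top.Covers 66543 167132 :=
  Log.Covers.trans top top_cov36 (top.covers_of_part _ _ _ top_part37)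

theorem top_cov38 : top.Covers 66543 169702 :=
  Log.Covers.trans top top_cov37 (top.covers_of_part _ _ _ top_part38)

theorem top_cov39 : top.Covers 66543 172290 :=
  Log.Covers.trans top top_cov38 (top.covers_of_part _ _ _ top_part39)

theorem top_cov40 : top.Covers 66543 174862 :=
  Log.Covers.trans top top_cov39 (top.covers_of_part _ _ _ top_part40)

theorem top_cov41 : top.Covers 66543 177439 :=
  Log.Covers.trans top top_cov40 (top.covers_of_part _ _ _ top_part41)

theorem top_cov42 : top.Covers 66543 180025 :=
  Log.Covers.trans top top_cov41 (top.covers_of_part _ _ _ top_part42)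

theorem top_cov43 : top.Covers 66543 182595 :=
  Log.Covers.trans top top_cov42 (top.covers_of_part _ _ _ top_part43)

theorem top_cov44 : top.Covers 66543 185173 :=
  Log.Covers.trans top top_cov43 (top.covers_of_part _ _ _ top_part44)

theorem top_cov45 : top.Covers 66543 187758 :=
  Log.Covers.trans top top_cov44 (top.covers_of_part _ _ _ top_part45)

theorem top_cov46 : top.Covers 66543 190336 :=
  Log.Covers.trans top top_cov45 (top.covers_of_part _ _ _ top_part46)

theorem top_cov47 : top.Covers 66543 192921 :=
  Log.Covers.trans top top_cov46 (top.covers_of_part _ _ _ top_part47)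

theorem top_cov48 : top.Covers 66543 195510 :=
  Log.Covers.trans top top_cov47 (top.covers_of_part _ _ _ top_part48)

theorem top_cov49 : top.Covers 66543 198093 :=
  Log.Covers.trans top top_cov48 (top.covers_of_part _ _ _ top_part49)

theorem top_cov50 : top.Covers 66543 200657 :=
  Log.Covers.trans top top_cov49 (top.covers_of_part _ _ _ top_part50)

theorem top_cov51 : top.Covers 66543 203239 :=
  Log.Covers.trans top top_cov50 (top.covers_of_part _ _ _ top_part51)

theorem top_cov52 : top.Covers 66543 205811 :=
  Log.Covers.trans top top_cov51 (top.covers_of_part _ _ _ top_part52)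

theorem top_cov53 : top.Covers 66543 208358 :=
  Log.Covers.trans top top_cov52 (top.covers_of_part _ _ _ top_part53)

theorem top_cov54 : top.Covers 66543 210908 :=
  Log.Covers.trans top top_cov53 (top.covers_of_part _ _ _ top_part54)

theorem top_cov55 : top.Covers 66543 213461 :=
  Log.Covers.trans top top_cov54 (top.covers_of_part _ _ _ top_part55)

theorem top_cov56 : top.Covers 66543 216018 :=
  Log.Covers.trans top top_cov55 (top.covers_of_part _ _ _ top_part56)

theorem top_cov57 : top.Covers 66543 218569 :=
  Log.Covers.trans top top_cov56 (top.covers_of_part _ _ _ top_part57)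

theorem top_cov58 : top.Covers 66543 221252 :=
  Log.Covers.trans top top_cov57 (top.covers_of_part _ _ _ top_part58)

theorem top_cov59 : top.Covers 66543 223952 :=
  Log.Covers.trans top top_cov58 (top.covers_of_part _ _ _ top_part59)

theorem top_cov60 : top.Covers 66543 226652 :=
  Log.Covers.trans top top_cov59 (top.covers_of_part _ _ _ top_part60)

theorem top_cov61 : top.Covers 66543 229352 :=
  Log.Covers.trans top top_cov60 (top.covers_of_part _ _ _ top_part61)

theorem top_cov62 : top.Covers 66543 232052 :=
  Log.Covers.trans top top_cov61 (top.covers_of_part _ _ _ top_part62)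

theorem top_cov63 : top.Covers 66543 234752 :=
  Log.Covers.trans top top_cov62 (top.covers_of_part _ _ _ top_part63)

theorem top_cov64 : top.Covers 66543 237452 :=
  Log.Covers.trans top top_cov63 (top.covers_of_part _ _ _ top_part64)

theorem top_cov65 : top.Covers 66543 240152 :=
  Log.Covers.trans top top_cov64 (top.covers_of_part _ _ _ top_part65)

theorem top_cov66 : top.Covers 66543 242852 :=
  Log.Covers.trans top top_cov65 (top.covers_of_part _ _ _ top_part66)

theorem top_cov67 : top.Covers 66543 245552 :=
  Log.Covers.trans top top_cov66 (top.covers_of_part _ _ _ top_part67)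

theorem top_cov68 : top.Covers 66543 248255 :=
  Log.Covers.trans top top_cov67 (top.covers_of_part _ _ _ top_part68)

theorem top_cov69 : top.Covers 66543 250947 :=
  Log.Covers.trans top top_cov68 (top.covers_of_part _ _ _ top_part69)

theorem top_cov70 : top.Covers 66543 253637 :=
  Log.Covers.trans top top_cov69 (top.covers_of_part _ _ _ top_part70)

theorem top_cov71 : top.Covers 66543 256325 :=
  Log.Covers.trans top top_cov70 (top.covers_of_part _ _ _ top_part71)

theorem top_cov72 : top.Covers 66543 259004 :=
  Log.Covers.trans top top_cov71 (top.covers_of_part _ _ _ top_part72)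

theorem top_cov73 : top.Covers 66543 261694 :=
  Log.Covers.trans top top_cov72 (top.covers_of_part _ _ _ top_part73)

theorem top_cov74 : top.Covers 66543 264382 :=
  Log.Covers.trans top top_cov73 (top.covers_of_part _ _ _ top_part74)

theorem top_cov75 : top.Covers 66543 267071 :=
  Log.Covers.trans top top_cov74 (top.covers_of_part _ _ _ top_part75)

theorem top_cov76 : top.Covers 66543 269758 :=
  Log.Covers.trans top top_cov75 (top.covers_of_part _ _ _ top_part76)

theorem top_cov77 : top.Covers 66543 272444 :=
  Log.Covers.trans top top_cov76 (top.covers_of_part _ _ _ top_part77)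

theorem top_cov78 : top.Covers 66543 275128 :=
  Log.Covers.trans top top_cov77 (top.covers_of_part _ _ _ top_part78)

theorem top_cov79 : top.Covers 66543 277811 :=
  Log.Covers.trans top top_cov78 (top.covers_of_part _ _ _ top_part79)

theorem top_cov80 : top.Covers 66543 280490 :=
  Log.Covers.trans top top_cov79 (top.covers_of_part _ _ _ top_part80)

theorem top_cov81 : top.Covers 66543 283167 :=
  Log.Covers.trans top top_cov80 (top.covers_of_part _ _ _ top_part81)

theorem top_cov82 : top.Covers 66543 285849 :=
  Log.Covers.trans top top_cov81 (top.covers_of_part _ _ _ top_part82)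

theorem top_cov83 : top.Covers 66543 288503 :=
  Log.Covers.trans top top_cov82 (top.covers_of_part _ _ _ top_part83)

theorem top_cov84 : top.Covers 66543 291188 :=
  Log.Covers.trans top top_cov83 (top.covers_of_part _ _ _ top_part84)

theorem top_cov85 : top.Covers 66543 293859 :=
  Log.Covers.trans top top_cov84 (top.covers_of_part _ _ _ top_part85)

theorem top_cov86 : top.Covers 66543 296497 :=
  Log.Covers.trans top top_cov85 (top.covers_of_part _ _ _ top_part86)

theorem top_cov87 : top.Covers 66543 299183 :=
  Log.Covers.trans top top_cov86 (top.covers_of_part _ _ _ top_part87)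

theorem top_cov88 : top.Covers 66543 301840 :=
  Log.Covers.trans top top_cov87 (top.covers_of_part _ _ _ top_part88)

theorem top_cov89 : top.Covers 66543 304484 :=
  Log.Covers.trans top top_cov88 (top.covers_of_part _ _ _ top_part89)

theorem top_cov90 : top.Covers 66543 307163 :=
  Log.Covers.trans top top_cov89 (top.covers_of_part _ _ _ top_part90)

theorem top_cov91 : top.Covers 66543 309860 :=
  Log.Covers.trans top top_cov90 (top.covers_of_part _ _ _ top_part91)

theorem top_cov92 : top.Covers 66543 312554 :=
  Log.Covers.trans top top_cov91 (top.covers_of_part _ _ _ top_part92)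

theorem top_cov93 : top.Covers 66543 315253 :=
  Log.Covers.trans top top_cov92 (top.covers_of_part _ _ _ top_part93)

theorem top_cov94 : top.Covers 66543 317953 :=
  Log.Covers.trans top top_cov93 (top.covers_of_part _ _ _ top_part94)

theorem top_cov95 : top.Covers 66543 320653 :=
  Log.Covers.trans top top_cov94 (top.covers_of_part _ _ _ top_part95)

theorem top_cov96 : top.Covers 66543 323353 :=
  Log.Covers.trans top top_cov95 (top.covers_of_part _ _ _ top_part96)

theorem top_cov97 : top.Covers 66543 326053 :=
  Log.Covers.trans top top_cov96 (top.covers_of_part _ _ _ top_part97)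

theorem top_cov98 : top.Covers 66543 328753 :=
  Log.Covers.trans top top_cov97 (top.covers_of_part _ _ _ top_part98)

theorem top_cov99 : top.Covers 66543 331453 :=
  Log.Covers.trans top top_cov98 (top.covers_of_part _ _ _ top_part99)

theorem top_cov100 : top.Covers 66543 334153 :=
  Log.Covers.trans top top_cov99 (top.covers_of_part _ _ _ top_part100)

theorem top_cov101 : top.Covers 66543 336853 :=
  Log.Covers.trans top top_cov100 (top.covers_of_part _ _ _ top_part101)

theorem top_cov102 : top.Covers 66543 339553 :=
  Log.Covers.trans top top_cov101 (top.covers_of_part _ _ _ top_part102)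

theorem top_cov103 : top.Covers 66543 342253 :=
  Log.Covers.trans top top_cov102 (top.covers_of_part _ _ _ top_part103)

theorem top_cov104 : top.Covers 66543 344953 :=
  Log.Covers.trans top top_cov103 (top.covers_of_part _ _ _ top_part104)

theorem top_cov105 : top.Covers 66543 347653 :=
  Log.Covers.trans top top_cov104 (top.covers_of_part _ _ _ top_part105)

theorem top_cov106 : top.Covers 66543 350353 :=
  Log.Covers.trans top top_cov105 (top.covers_of_part _ _ _ top_part106)

theorem top_cov107 : top.Covers 66543 353053 :=
  Log.Covers.trans top top_cov106 (top.covers_of_part _ _ _ top_part107)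

theorem top_cov108 : top.Covers 66543 355753 :=
  Log.Covers.trans top top_cov107 (top.covers_of_part _ _ _ top_part108)

theorem top_cov109 : top.Covers 66543 358453 :=
  Log.Covers.trans top top_cov108 (top.covers_of_part _ _ _ top_part109)

theorem top_cov110 : top.Covers 66543 361153 :=
  Log.Covers.trans top top_cov109 (top.covers_of_part _ _ _ top_part110)

theorem top_cov111 : top.Covers 66543 363853 :=
  Log.Covers.trans top top_cov110 (top.covers_of_part _ _ _ top_part111)

theorem top_cov112 : top.Covers 66543 366553 :=
  Log.Covers.trans top top_cov111 (top.covers_of_part _ _ _ top_part112)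

theorem top_cov113 : top.Covers 66543 369253 :=
  Log.Covers.trans top top_cov112 (top.covers_of_part _ _ _ top_part113)

theorem top_cov114 : top.Covers 66543 371953 :=
  Log.Covers.trans top top_cov113 (top.covers_of_part _ _ _ top_part114)

theorem top_cov115 : top.Covers 66543 374653 :=
  Log.Covers.trans top top_cov114 (top.covers_of_part _ _ _ top_part115)

theorem top_cov116 : top.Covers 66543 376746 :=
  Log.Covers.trans top top_cov115 (top.covers_of_part _ _ _ top_part116)

theorem top_facts : ∀ i, top.M ≤ i + 1 → i < top.nF → ∃ J, top.chkFact i J = true :=
  top.facts_of_covers top_cov116 rfl rfl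

theorem top_checks : top.Checks where
  pos := by decide +kernel
  defs := top_defs
  facts := top_facts
  final := by
    intro k hk
    change k < 28431 * 10 at hk
    refine of_allBlock (n := 284310) (size := 2048) (by decide) (fun j hj => ?_) (by omega)
    have hj' : j < 139 := by omega
    interval_cases j
    · exact top_final0
    · exact top_final1
    · exact top_final2
    · exact top_final3
    · exact top_final4
    · exact top_final5
    · exact top_final6
    · exact top_final7
    · exact top_final8
    · exact top_final9
    · exact top_final10
    · exact top_final11
    · exact top_final12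
    · exact top_final13
    · exact top_final14
    · exact top_final15
    · exact top_final16
    · exact top_final17
    · exact top_final18
    · exact top_final19
    · exact top_final20
    · exact top_final21
    · exact top_final22
    · exact top_final23
    · exact top_final24
    · exact top_final25
    · exact top_final26
    · exact top_final27
    · exact top_final28
    · exact top_final29
    · exact top_final30
    · exact top_final31
    · exact top_final32
    · exact top_final33
    · exact top_final34
    · exact top_final35
    · exact top_final36
    · exact top_final37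
    · exact top_final38
    · exact top_final39
    · exact top_final40
    · exact top_final41
    · exact top_final42
    · exact top_final43
    · exact top_final44
    · exact top_final45
    · exact top_final46
    · exact top_final47
    · exact top_final48
    · exact top_final49
    · exact top_final50
    · exact top_final51
    · exact top_final52
    · exact top_final53
    · exact top_final54
    · exact top_final55
    · exact top_final56
    · exact top_final57
    · exact top_final58
    · exact top_final59
    · exact top_final60
    · exact top_final61
    · exact top_final62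
    · exact top_final63
    · exact top_final64
    · exact top_final65
    · exact top_final66
    · exact top_final67
    · exact top_final68
    · exact top_final69
    · exact top_final70
    · exact top_final71
    · exact top_final72
    · exact top_final73
    · exact top_final74
    · exact top_final75
    · exact top_final76
    · exact top_final77
    · exact top_final78
    · exact top_final79
    · exact top_final80
    · exact top_final81
    · exact top_final82
    · exact top_final83
    · exact top_final84
    · exact top_final85
    · exact top_final86
    · exact top_final87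
    · exact top_final88
    · exact top_final89
    · exact top_final90
    · exact top_final91
    · exact top_final92
    · exact top_final93
    · exact top_final94
    · exact top_final95
    · exact top_final96
    · exact top_final97
    · exact top_final98
    · exact top_final99
    · exact top_final100
    · exact top_final101
    · exact top_final102
    · exact top_final103
    · exact top_final104
    · exact top_final105
    · exact top_final106
    · exact top_final107
    · exact top_final108
    · exact top_final109
    · exact top_final110
    · exact top_final111
    · exact top_final112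
    · exact top_final113
    · exact top_final114
    · exact top_final115
    · exact top_final116
    · exact top_final117
    · exact top_final118
    · exact top_final119
    · exact top_final120
    · exact top_final121
    · exact top_final122
    · exact top_final123
    · exact top_final124
    · exact top_final125
    · exact top_final126
    · exact top_final127
    · exact top_final128
    · exact top_final129
    · exact top_final130
    · exact top_final131
    · exact top_final132
    · exact top_final133
    · exact top_final134
    · exact top_final135
    · exact top_final136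
    · exact top_final137
    · exact top_final138

end Cfsg.Agent.Spor.Cos.Fi24Up
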