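import Cfsg.Agent.Lib.Spor.Cos.Fi24Up.Q0Ok
import Cfsg.Agent.Lib.Spor.Cos.Fi24Up.Q1Ok
import Cfsg.Agent.Lib.Spor.Cos.Fi24Up.Q2Ok
import Cfsg.Agent.Lib.Spor.Cos.Fi24Up.Q3Ok
import Cfsg.Agent.Lib.Spor.Cos.Fi24Up.Q4Ok
import Cfsg.Agent.Lib.Spor.Cos.Fi24Up.Q5Ok
import Cfsg.Agent.Lib.Spor.Cos.Fi24Up.Q6Ok
import Cfsg.Agent.Lib.Spor.Cos.Fi24Up.ActQ
import Cfsg.Agent.Lib.Spor.Cos.Fi24Up.TopCert
import Cfsg.Agent.Lib.Spor.Cos.Fi24Up.T56Cert
import Cfsg.Agent.Lib.Spor.Cos.Fi24Up.T120Cert
import Cfsg.Agent.Lib.Spor.Cos.Fi22.A4Cert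
import Cfsg.Agent.Lib.Spor.Cos.Fi22.D5Cert
import Cfsg.Agent.Lib.Spor.Cos.Fi22.E6Cert
import Cfsg.Agent.Lib.Spor.Cos.Simple

/-!
The spider word is trivial in the group of the subdiagram: the group has order at most that of its image on 1080
points, and the word acts trivially there.
-/

set_option autoImplicit false
set_option maxRecDepth 100000
set_option maxHeartbeats 4000000

namespace Cfsg.Agent.Spor.Cos.Fi24Up

theorem q_upper : Finite Q ∧ Nat.card Q ≤ 9904359628800 := by
  have h0 : Bound qg [] 1 := Bound.nil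
  have h1 : Bound qg [3, 4, 5, 6] 120 :=
    Bound.step (d := 10) qg_sq h0 Fi22.a4 Fi22.a4_checks rfl (by decide +kernel)
      (hbase_of qg_sq qg_words (n := 10) (by decide +kernel)) Fi22.a4_derived
  have h2 : Bound qg [3, 4, 5, 6, 8] 1920 :=
    Bound.step (d := 10) qg_sq h1 Fi22.d5 Fi22.d5_checks rfl (by decide +kernel)
      (hbase_of qg_sq qg_words (n := 10) (by decide +kernel)) Fi22.d5_derived
  have h3 : Bound qg [3, 4, 5, 6, 7, 8] 51840 :=
    Bound.step (d := 10) qg_sq h2 Fi22.e6 Fi22.e6_checks rfl (by decide +kernel)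
      (hbase_of qg_sq qg_words (n := 10) (by decide +kernel)) Fi22.e6_derived
  have h4 : Bound qg [0, 2, 3, 4, 5, 6, 7, 8] 2903040 :=
    Bound.step (d := 10) qg_sq h3 t56 t56_checks rfl (by decide +kernel)
      (hbase_of qg_sq qg_words (n := 10) (by decide +kernel)) t56_derived
  have h5 : Bound qg [0, 1, 2, 3, 4, 5, 6, 7, 8] 348364800 :=
    Bound.step (d := 10) qg_sq h4 t120 t120_checks rfl (by decide +kernel)
      (hbase_of qg_sq qg_words (n := 10) (by decide +kernel)) t120_derived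
  have h6 : Bound qg (List.range 10) 9904359628800 :=
    Bound.step (d := 10) qg_sq h5 top top_checks rfl (by decide +kernel)
      (hbase_of qg_sq qg_words (n := 10) (by decide +kernel)) top_derived
  exact Bound.top (n := 10) h6 qg_gen

theorem exists_homQ : ∃ π : Q →* Equiv.Perm (Fin actQ.N), ∀ s, π (qg s) = actQ.perm s :=
  qPres.exists_hom actQ.perm actQ.perm_sq (actQ.ev_rels actQ_inv (by decide +kernel) actQ_rels) actQ.perm_out

/-- The action on 1080 points. -/
noncomputable def piQ : Q →* Equiv.Perm (Fin actQ.N) := exists_homQ.choose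

theorem homQ : actQ.Hom qg piQ := ⟨actQ_inv, exists_homQ.choose_spec⟩

theorem qSpider_eq_one : ev qg qSpider = 1 := by
  have := q_upper.1
  have p7 : LevR qg actQ piQ [] 1 [] := LevR.nil
  have p6 : LevR qg actQ piQ q6W 4 [10] :=
    LevR.step homQ p7 q6_ok (by decide +kernel) (by decide +kernel) (by decide +kernel)
  have p5 : LevR qg actQ piQ q5W 36 [8, 10] :=
    LevR.step homQ p6 q5_ok (by decide +kernel) (by decide +kernel) (by decide +kernel)
  have p4 : LevR qg actQ piQ q4W 720 [7, 8, 10] :=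
    LevR.step homQ p5 q4_ok (by decide +kernel) (by decide +kernel) (by decide +kernel)
  have p3 : LevR qg actQ piQ q3W 51840 [5, 7, 8, 10] :=
    LevR.step homQ p4 q3_ok (by decide +kernel) (by decide +kernel) (by decide +kernel)
  have p2 : LevR qg actQ piQ q2W 12597120 [3, 5, 7, 8, 10] :=
    LevR.step homQ p3 q2_ok (by decide +kernel) (by decide +kernel) (by decide +kernel)
  have p1 : LevR qg actQ piQ q1W 9170703360 [1, 3, 5, 7, 8, 10] :=
    LevR.step homQ p2 q1_ok (by decide +kernel) (by decide +kernel) (by decide +kernel)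
  have p0 : LevR qg actQ piQ q0W 9904359628800 [0, 1, 3, 5, 7, 8, 10] :=
    LevR.step homQ p1 q0_ok (by decide +kernel) (by decide +kernel) (by decide +kernel)
  have hw : q0W = singles (List.range 10) := by decide +kernel
  rw [hw] at p0
  refine (Lev.top p0 qg_gen q_upper.2).2 _ fun q _ => Fin.ext ?_
  rw [homQ.apply_ev qSpider (by decide +kernel) q]
  exact Nat.eq_of_beq_eq_true (List.all_eq_true.1 (actQ_spid q q.2) qSpider (List.mem_singleton_self _))

end Cfsg.Agent.Spor.Cos.Fi24Up
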