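import Cfsg.Agent.Lib.Spor.Cos.Fi24Up.Pres
import Cfsg.Agent.Lib.Spor.Cos.Fi24Up.QSpider

/-!
The spider relation of Fi23 holds in the presented Fi24.
-/

set_option autoImplicit false
set_option maxRecDepth 100000
set_option maxHeartbeats 4000000

namespace Cfsg.Agent.Spor.Cos.Fi24Up

/-- The letters of the subdiagram. -/
def subLetters : List ℕ := [0, 1, 2, 3, 4, 5, 6, 7, 10, 11]

theorem spider_eq_one : ev g (qSpider.map fun i => subLetters.getD i 12) = 1 := by
  have hb : ∀ w ∈ qWords, ev (fun i => g (subLetters.getD i 12)) w = 1 := fun w hw =>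
    (ev_reletter subLetters 12 w).trans (hbase_of g_sq g_words (n := 12) (by decide +kernel) w hw)
  obtain ⟨π, hπ⟩ := qPres.exists_hom (fun i => g (subLetters.getD i 12)) (fun i => g_sq _) hb (fun s hs => by
    have : subLetters.length ≤ s := hs
    have e : subLetters.getD s 12 = 12 := by simp [List.getD_eq_getElem?_getD, List.getElem?_eq_none this]
    simp only [e]
    exact (Pres.gen_cases (edges := Spor.Fi24.edges) (extra := Spor.Fi24.extra) (A := alph) 12).resolve_right
      fun ⟨a, h, _⟩ => by simp [alph] at h)
  have := congrArg π qSpider_eq_one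
  rw [map_one, ev_map] at this
  rw [← ev_reletter subLetters 12]
  rwa [show (fun s => π (qg s)) = fun i => g (subLetters.getD i 12) from funext hπ] at this

end Cfsg.Agent.Spor.Cos.Fi24Up
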