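import Cfsg.Agent.Lib.Spor.Cos.Fi24Up.Ident
import Cfsg.Agent.Lib.Spor.Cos.Fi24Up.Chains
import Cfsg.Agent.Lib.Spor.Cos.Fi24Up.Cx0Ok
import Cfsg.Agent.Lib.Spor.Cos.Fi24Up.Cx1Ok
import Cfsg.Agent.Lib.Spor.Cos.Fi24Up.Cx2Ok
import Cfsg.Agent.Lib.Spor.Cos.Fi24Up.Ck0Ok
import Cfsg.Agent.Lib.Spor.Cos.Fi24Up.Ck1Ok
import Cfsg.Agent.Lib.Spor.Cos.Fi24Up.CxAll
import Cfsg.Agent.Lib.Spor.Cos.Fi24Up.CkAll

/-!
The subgroup of the generators other than k has index at most 306936 in the presented Fi24: the cosets fall into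
the orbits of 1, k and klak.
-/

set_option autoImplicit false
set_option maxRecDepth 100000
set_option maxHeartbeats 4000000

open Cfsg.Spor

namespace Cfsg.Agent.Spor.Cos.Fi24Up

theorem l_mem_HH : g 0 ∈ HH := mem_single (by decide)

theorem phi_mem_HH (y : Spor.Fi23) : phi y ∈ HH := by
  have hy : y ∈ Subgroup.closure {x | ∃ s < 10, Fi23.g s = x} := Fi23.g_gen ▸ Subgroup.mem_top y
  induction hy using Subgroup.closure_induction with
  | mem x hx =>
    obtain ⟨s, hs, rfl⟩ := hx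
    rw [phi_g, sigma, if_pos hs]
    have : hLetters.contains (s + 2) = true := by interval_cases s <;> rfl
    exact HH.mul_mem (mem_single (List.contains_iff_mem.1 this)) l_mem_HH
  | one => rw [map_one]; exact HH.one_mem
  | mul a b _ _ ha hb => rw [map_mul]; exact HH.mul_mem ha hb
  | inv a _ ha => rw [map_inv]; exact HH.inv_mem ha

theorem exists_phi_eq {y : Spor.Fi24} (hy : y ∈ HH) : ∃ f e, y = phi f * g 0 ^ (e : ℕ) := by
  induction hy using Subgroup.closure_induction with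
  | mem x hx =>
    obtain ⟨w, hw, rfl⟩ := hx
    obtain ⟨s, hs, rfl⟩ := List.mem_map.1 hw
    have : okH [s] = true := by simpa [okH] using hs
    exact ⟨_, _, ev_eq [s] this⟩
  | one => exact ⟨1, 0, by simp⟩
  | mul a b _ _ ha hb =>
    obtain ⟨f, e, rfl⟩ := ha
    obtain ⟨f', e', rfl⟩ := hb
    refine ⟨f * f', e + e', ?_⟩
    rw [map_mul, pow_add, mul_assoc, ← mul_assoc (g 0 ^ e), ((l_comm_phi f').pow_left e).eq, mul_assoc,
      ← mul_assoc]
  | inv a _ ha =>
    obtain ⟨f, e, rfl⟩ := ha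
    refine ⟨f⁻¹, e, ?_⟩
    rw [mul_inv_rev, map_inv, ← inv_pow, g_inv]
    exact ((l_comm_phi f).pow_left e).inv_right.eq

/-- The element klak. -/
noncomputable def xx : Spor.Fi24 := ev g xWord

theorem phi_ev_eq (w : List ℕ) (h : ∀ s ∈ w, s < 10) : phi (ev Fi23.g w) = ev g (up w) * g 0 ^ w.length :=
  (phi_ev w).trans (ev_sigma w h)

theorem l_fix_x : g 0 ∈ fixer xx := letters_fix_x (by decide)

theorem phi_cx {f : Spor.Fi23} (hf : f ∈ val Fi23.g cx0W) : phi f ∈ fixer xx := by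
  have hc : (cx0W.all fun v => v.all (fun s => Nat.blt s 10) &&
      (up v == extraX || up v == [v.headI + 2] && [2, 4, 5, 6, 7, 8, 9, 10, 11].contains (v.headI + 2))) = true := by
    decide +kernel
  induction hf using Subgroup.closure_induction with
  | mem x hx =>
    obtain ⟨v, hv, rfl⟩ := hx
    have h := List.all_eq_true.1 hc v hv
    simp only [Bool.and_eq_true, Bool.or_eq_true, beq_iff_eq] at h
    obtain ⟨hl, h⟩ := h
    rw [phi_ev_eq v fun s hs => Nat.le_of_ble_eq_true (List.all_eq_true.1 hl s hs)]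
    refine (fixer xx).mul_mem ?_ ((fixer xx).pow_mem l_fix_x _)
    rcases h with h | ⟨h, hh⟩
    · rw [h]; exact extraX_fix
    · rw [h, show ev g [v.headI + 2] = g (v.headI + 2) by simp [ev]]
      exact letters_fix_x (List.mem_cons_of_mem _ (List.contains_iff_mem.1 hh))
  | one => rw [map_one]; exact one_mem _
  | mul a b _ _ ha hb => rw [map_mul]; exact mul_mem ha hb
  | inv a _ ha => rw [map_inv]; exact inv_mem ha

theorem fixer_le_HH {r y : Spor.Fi24} (h : y ∈ fixer r) : y ∈ HH := (mem_fixer.1 h).1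

/-- The elements fixing the coset of k, times l. -/
noncomputable def fixK : Subgroup Spor.Fi24 := fixer (g 1) ⊔ Subgroup.zpowers (g 0)

theorem l_comm_HH {y : Spor.Fi24} (hy : y ∈ HH) : Commute (g 0) y := by
  obtain ⟨f, e, rfl⟩ := exists_phi_eq hy
  exact (l_comm_phi f).mul_right ((Commute.refl _).pow_right e)

theorem mem_fixK {y : Spor.Fi24} (hy : y ∈ fixK) : y ∈ fixer (g 1) ∨ y * g 0 ∈ fixer (g 1) := by
  rw [fixK, ← Subgroup.closure_eq (fixer (g 1)), Subgroup.zpowers_eq_closure, ← Subgroup.closure_union] at hy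
  induction hy using Subgroup.closure_induction with
  | mem x hx =>
    rcases hx with hx | hx
    · exact Or.inl hx
    · rw [Set.mem_singleton_iff.1 hx, g_sq]; exact Or.inr (one_mem _)
  | one => exact Or.inl (one_mem _)
  | mul a b ha' hb' ha hb =>
    have hb2 : Commute (g 0) b := by
      rcases hb with hb | hb
      · exact l_comm_HH (fixer_le_HH hb)
      · simpa [mul_assoc, g_sq] using (l_comm_HH (fixer_le_HH hb)).mul_right (Commute.refl (g 0))
    rcases ha with ha | ha <;> rcases hb with hb | hb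
    · exact Or.inl (mul_mem ha hb)
    · exact Or.inr (by rw [mul_assoc]; exact mul_mem ha hb)
    · exact Or.inr (by rw [mul_assoc, ← hb2.eq, ← mul_assoc]; exact mul_mem ha hb)
    · refine Or.inl ?_
      have := mul_mem ha hb
      rwa [mul_assoc, ← mul_assoc (g 0), hb2.eq, mul_assoc b, g_sq, mul_one] at this
  | inv a ha' ha =>
    rcases ha with ha | ha
    · exact Or.inl (inv_mem ha)
    · have hc : Commute (g 0) a := by
        simpa [mul_assoc, g_sq] using (l_comm_HH (fixer_le_HH ha)).mul_right (Commute.refl (g 0))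
      refine Or.inr ?_
      have := inv_mem ha
      rwa [mul_inv_rev, g_inv, (hc.inv_right).eq] at this

theorem phi_kp {f : Spor.Fi23} (hf : f ∈ val Fi23.g kp0W) : phi f ∈ fixK := by
  have hc : (kp0W.all fun v => v.all (fun s => Nat.blt s 10) &&
      (up v == extraK.filter (fun s => !Nat.beq s 0) ||
        up v == [v.headI + 2] && kLetters.contains (v.headI + 2))) = true := by decide +kernel
  have hl0 : g 0 ∈ fixK := le_sup_right (α := Subgroup Spor.Fi24) (Subgroup.mem_zpowers _)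
  have hK : ∀ {y}, y ∈ fixer (g 1) → y ∈ fixK := fun h => le_sup_left (α := Subgroup Spor.Fi24) h
  induction hf using Subgroup.closure_induction with
  | mem x hx =>
    obtain ⟨v, hv, rfl⟩ := hx
    have h := List.all_eq_true.1 hc v hv
    simp only [Bool.and_eq_true, Bool.or_eq_true, beq_iff_eq] at h
    obtain ⟨hl, h⟩ := h
    have hlt : ∀ s ∈ v, s < 10 := fun s hs => Nat.le_of_ble_eq_true (List.all_eq_true.1 hl s hs)
    rcases h with h | ⟨h, hh⟩
    · have e : down extraK = v := by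
        rw [down, ← h, up, List.map_map]
        exact (List.map_congr_left fun s _ => by simp).trans (List.map_id v)
      have he := hK extraK_fix
      rw [ev_eq extraK (by decide +kernel), e] at he
      exact (Subgroup.mul_mem_cancel_right _ (pow_mem hl0 _)).1 he
    · rw [phi_ev_eq v hlt]
      refine fixK.mul_mem (hK ?_) (pow_mem hl0 _)
      rw [h]
      exact letters_fix_k (by simpa using hh)
  | one => rw [map_one]; exact one_mem _
  | mul a b _ _ ha hb => rw [map_mul]; exact mul_mem ha hb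
  | inv a _ ha => rw [map_inv]; exact inv_mem ha

/-- The point fixed by the stabiliser of klak. -/
noncomputable def pX : Fin Fi23.actA.N := ⟨31670, by decide +kernel⟩

theorem trX (p : Fin Fi23.actA.N) : ∃ y : Spor.Fi23, Fi23.piA y pX = p := by
  obtain ⟨a, ha⟩ := Fi23.trA pX
  obtain ⟨b, hb⟩ := Fi23.trA p
  refine ⟨b * a⁻¹, ?_⟩
  rw [← ha, ← Equiv.Perm.mul_apply, ← map_mul, inv_mul_cancel_right, hb]

theorem stabX : val Fi23.g cx0W = stab Fi23.piA pX := by
  have := Fi23.finite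
  exact val_eq_stab Fi23.homA trX (k := 129123503308800) (by decide +kernel) (by decide +kernel)
    (card_sx.trans (Subgroup.card_le_of_le sx_le)) (le_of_eq Fi23.card_eq)

theorem factor {ws : List (List ℕ)} {O : Orb} {r : ℕ} (hO : O.Ok Fi23.actA ws r) (t : List ℕ)
    (ht : Act.lettersOk 10 [t] = true) (hr : Nat.beq (Fi23.actA.go t 31670) r = true) {f : Spor.Fi23}
    (hp : O.mem (Fi23.piA f pX) = true) :
    ∃ a ∈ val Fi23.g ws, ∃ b ∈ val Fi23.g cx0W, f = a * ev Fi23.g t * b := by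
  have e : (Fi23.piA (ev Fi23.g t) pX : ℕ) = r :=
    (Fi23.homA.apply_ev t (Act.lt_of_lettersOk ht (List.mem_singleton_self t)) pX).trans (Nat.eq_of_beq_eq_true hr)
  obtain ⟨a, ha, hap⟩ := hO.mem_orbit Fi23.homA _ e hp
  refine ⟨a, ha, (a * ev Fi23.g t)⁻¹ * f, ?_, (mul_inv_cancel_left _ _).symm⟩
  rw [stabX]
  refine exists_apply_eq_iff.1 ?_
  rw [map_mul, Equiv.Perm.mul_apply, hap]

/-- The orbit of a coset under the subgroup. -/
def orbOf (r : Spor.Fi24) : Set (Spor.Fi24 ⧸ HH) := {q | ∃ h ∈ HH, q = ((h * r : Spor.Fi24) : Spor.Fi24 ⧸ HH)}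

theorem mk_mul_right (y : Spor.Fi24) {c : Spor.Fi24} (hc : c ∈ HH) :
    ((y * c : Spor.Fi24) : Spor.Fi24 ⧸ HH) = (y : Spor.Fi24 ⧸ HH) := QuotientGroup.mk_mul_of_mem y hc

theorem fix_mk {r κ : Spor.Fi24} (y : Spor.Fi24) (hr : r * r = 1) (h : κ ∈ fixer r) :
    ((y * κ * r : Spor.Fi24) : Spor.Fi24 ⧸ HH) = ((y * r : Spor.Fi24) : Spor.Fi24 ⧸ HH) := by
  have e : r⁻¹ = r := inv_eq_of_mul_eq_one_left hr
  have h2 := (mem_fixer.1 h).2
  rw [e] at h2
  have : y * κ * r = y * r * (r * κ * r) := by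
    rw [← mul_assoc, ← mul_assoc, mul_assoc y r r, hr, mul_one]
  rw [this]
  exact mk_mul_right _ h2

theorem xx_sq : xx * xx = 1 := by
  have e : derivedOk 12 words [1, 1] = true := by decide +kernel
  have hc : g 0 * g 2 = g 2 * g 0 := g_comm (by decide +kernel)
  simp only [xx, xWord, ev, mul_one]
  calc g 1 * (g 0 * (g 2 * g 1)) * (g 1 * (g 0 * (g 2 * g 1)))
      = g 1 * (g 0 * (g 2 * ((g 1 * g 1) * (g 0 * g 2)))) * g 1 := by simp [mul_assoc]
    _ = g 1 * (g 0 * (g 0 * (g 2 * g 2))) * g 1 := by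
      rw [g_sq, one_mul, ← mul_assoc (g 2), ← hc]
      simp only [mul_assoc]
    _ = 1 := by simp [g_sq]

/-- The three representatives. -/
noncomputable def reps : List Spor.Fi24 := [1, g 1, xx]

theorem landing {t r w r' h1 : List ℕ} (hw : isLoop w = true) (ht : r'.reverse ++ h1.reverse ++ xWord ++ t ++ r = w) :
    ((xx * ev g t * ev g r : Spor.Fi24) : Spor.Fi24 ⧸ HH) = ((ev g h1 * ev g r' : Spor.Fi24) : Spor.Fi24 ⧸ HH) := by
  have h := mem_of_isLoop hw
  rw [← ht] at h
  simp only [ev_append, ev_rev] at h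
  refine (QuotientGroup.eq.2 ?_).symm
  simpa [xx, mul_assoc] using h

/-- The cosets in the three orbits. -/
def cosets : Set (Spor.Fi24 ⧸ HH) := orbOf 1 ∪ orbOf (g 1) ∪ orbOf xx

theorem mk_mem_cosets {c : Spor.Fi24} (hc : c ∈ HH) {r : List ℕ} (hr : r ∈ [[], [1], xWord]) :
    ((c * ev g r : Spor.Fi24) : Spor.Fi24 ⧸ HH) ∈ cosets := by
  simp only [List.mem_cons, List.not_mem_nil, or_false] at hr
  rcases hr with rfl | rfl | rfl
  · exact Or.inl (Or.inl ⟨c, hc, rfl⟩)
  · exact Or.inl (Or.inr ⟨c, hc, by simp [ev]⟩)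
  · exact Or.inr ⟨c, hc, rfl⟩

theorem x_step {a : Spor.Fi24} (ha : a ∈ fixer xx) {t r w r' h1 : List ℕ} (hw : isLoop w = true)
    (ht : r'.reverse ++ h1.reverse ++ xWord ++ t ++ r = w) (hh : okH h1 = true) (hr' : r' ∈ [[], [1], xWord]) :
    ((xx * a * ev g t * ev g r : Spor.Fi24) : Spor.Fi24 ⧸ HH) ∈ cosets := by
  set c := xx * a * xx⁻¹
  have e : xx * a * ev g t * ev g r = c * (xx * ev g t * ev g r) := by simp [c, mul_assoc]
  rw [e, ← smul_eq_mul, ← MulAction.Quotient.smul_coe, landing hw ht, MulAction.Quotient.smul_coe, smul_eq_mul, ← mul_assoc]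
  exact mk_mem_cosets (HH.mul_mem (mem_fixer.1 ha).2 (mem_HH hh)) hr'

theorem cx_cases (f : Spor.Fi23) : ∃ t ∈ [[], [1], [1, 0, 2, 1]], ∃ a ∈ val Fi23.g cx0W, ∃ b ∈ val Fi23.g cx0W,
    f = a * ev Fi23.g t * b := by
  have h := cx_all _ (Fi23.piA f pX).2
  simp only [cxMem, Bool.or_eq_true] at h
  rcases h with (h | h) | h
  · exact ⟨[], by simp, factor cx0_ok [] (by decide +kernel) (by decide +kernel) h⟩
  · exact ⟨[1], by simp, factor (ws := cx0W) (show cx1.Ok Fi23.actA cx0W _ from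
      (show cx1W = cx0W by decide +kernel) ▸ cx1_ok) [1] (by decide +kernel) (by decide +kernel) h⟩
  · exact ⟨[1, 0, 2, 1], by simp, factor (ws := cx0W) (show cx2.Ok Fi23.actA cx0W _ from
      (show cx2W = cx0W by decide +kernel) ▸ cx2_ok) [1, 0, 2, 1] (by decide +kernel) (by decide +kernel) h⟩

theorem ck_cases (f : Spor.Fi23) : ∃ t ∈ [[], [0, 1]], ∃ a ∈ val Fi23.g kp0W, ∃ b ∈ val Fi23.g cx0W,
    f = a * ev Fi23.g t * b := by
  have h := ck_all _ (Fi23.piA f pX).2
  simp only [ckMem, Bool.or_eq_true] at h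
  rcases h with h | h
  · exact ⟨[], by simp, factor (ws := kp0W) (show ck0.Ok Fi23.actA kp0W _ from
      (show ck0W = kp0W by decide +kernel) ▸ ck0_ok) [] (by decide +kernel) (by decide +kernel) h⟩
  · exact ⟨[0, 1], by simp, factor (ws := kp0W) (show ck1.Ok Fi23.actA kp0W _ from
      (show ck1W = kp0W by decide +kernel) ▸ ck1_ok) [0, 1] (by decide +kernel) (by decide +kernel) h⟩

theorem pow_mem_x (n : ℕ) : g 0 ^ n ∈ fixer xx := pow_mem l_fix_x n

theorem x_mul_mem {q : Spor.Fi24 ⧸ HH} (hq : q ∈ cosets) : xx • q ∈ cosets := by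
  rcases hq with (⟨h, hh, rfl⟩ | ⟨h, hh, rfl⟩) | ⟨h, hh, rfl⟩
  · rw [MulAction.Quotient.smul_coe, mul_one, smul_eq_mul, mk_mul_right _ hh]
    exact Or.inr ⟨1, HH.one_mem, by rw [one_mul]⟩
  · rw [MulAction.Quotient.smul_coe, smul_eq_mul]
    obtain ⟨f, e, rfl⟩ := exists_phi_eq hh
    obtain ⟨t, ht, a, ha, b, hb, hf⟩ := ck_cases f⁻¹
    have htl : ∀ s ∈ t.reverse, s < 10 := by
      intro s hs
      rw [List.mem_reverse] at hs
      fin_cases ht <;> simp at hs
      omega
    have hinv : f = b⁻¹ * ev Fi23.g t.reverse * a⁻¹ := by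
      rw [ev_reverse (n := 10) (fun s _ => Fi23.g_sq s) t (fun s hs => htl s (List.mem_reverse.2 hs)),
        ← inv_inv f, hf]
      group
    -- the decomposition in Fi24
    have hl : Commute (g 0 ^ (t.length + e)) (phi a⁻¹) := (l_comm_phi _).pow_left _
    set σ := phi b⁻¹ with hσ
    have hσm : σ ∈ fixer xx := phi_cx (inv_mem hb)
    have hκ : phi a⁻¹ ∈ fixK := phi_kp (inv_mem ha)
    have hdec : ∃ n : ℕ, ∃ κ ∈ fixer (g 1), phi f * g 0 ^ e = σ * g 0 ^ n * ev g (up t.reverse) * κ := by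
      have hct : Commute (g 0) (ev g (up t.reverse)) := l_comm_HH (mem_HH (by fin_cases ht <;> decide +kernel))
      have base : phi f * g 0 ^ e = σ * g 0 ^ (t.length + e) * ev g (up t.reverse) * phi a⁻¹ := by
        rw [hinv, map_mul, map_mul, phi_ev_eq _ htl, ← hσ, List.length_reverse]
        simp only [mul_assoc]
        rw [← ((l_comm_phi a⁻¹).pow_left e).eq]
        simp only [← mul_assoc]
        rw [mul_assoc (σ * ev g (up t.reverse)), ← pow_add, mul_assoc σ, ← (hct.pow_left _).eq, ← mul_assoc]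
      rcases mem_fixK hκ with hk | hk
      · exact ⟨_, _, hk, base⟩
      · refine ⟨t.length + e + 1, _, hk, ?_⟩
        rw [base, pow_succ, (l_comm_phi a⁻¹).symm.eq]
        simp only [mul_assoc]
        rw [← mul_assoc (ev g (up t.reverse)) (g 0), ← hct.eq, mul_assoc, ← mul_assoc (g 0) (g 0) , g_sq, one_mul]
    obtain ⟨n, κ, hκ', hd⟩ := hdec
    rw [hd, ← mul_assoc, ← mul_assoc xx (σ * g 0 ^ n * ev g (up t.reverse)) κ, fix_mk _ (g_sq 1) hκ']
    have hr : g 1 = ev g [1] := by simp [ev]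
    rw [show xx * (σ * g 0 ^ n * ev g (up t.reverse)) = xx * (σ * g 0 ^ n) * ev g (up t.reverse) by group, hr]
    have hσ' := mul_mem hσm (pow_mem_x n)
    fin_cases ht
    · exact x_step hσ' (w := [1, 1, 0, 2, 1, 1]) (r' := [1]) (h1 := []) (by decide +kernel) (by decide +kernel)
        rfl (by decide)
    · exact x_step hσ' (w := [1, 2, 0, 1, 3, 1, 0, 2, 1, 3, 2, 1]) (r' := [1, 0, 2, 1]) (h1 := [3])
        (by decide +kernel) (by decide +kernel) (by decide +kernel) (by decide)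
  · rw [MulAction.Quotient.smul_coe, smul_eq_mul]
    obtain ⟨f, e, rfl⟩ := exists_phi_eq hh
    obtain ⟨t, ht, a, ha, b, hb, hf⟩ := cx_cases f
    have htl : ∀ s ∈ t, s < 10 := by
      intro s hs
      fin_cases ht <;> simp at hs <;> omega
    have hct : Commute (g 0) (ev g (up t)) := l_comm_HH (mem_HH (by fin_cases ht <;> decide +kernel))
    have hd : phi f * g 0 ^ e = phi a * ev g (up t) * (g 0 ^ t.length * phi b * g 0 ^ e) := by
      rw [hf, map_mul, map_mul, phi_ev_eq t htl]; group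
    rw [hd, ← mul_assoc, ← mul_assoc xx (phi a * ev g (up t)), fix_mk _ xx_sq
      (mul_mem (mul_mem (pow_mem_x _) (phi_cx hb)) (pow_mem_x _)), ← mul_assoc]
    have ha' := phi_cx ha
    fin_cases ht
    · exact x_step ha' (w := [1, 0, 2, 1, 1, 0, 2, 1]) (r' := []) (h1 := []) (by decide +kernel)
        (by decide +kernel) rfl (by decide)
    · exact x_step ha' (w := [1, 2, 3, 1, 0, 2, 1, 3, 1, 0, 2, 1]) (r' := [1]) (h1 := [3, 2]) (by decide +kernel)
        (by decide +kernel) (by decide +kernel) (by decide)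
    · exact x_step ha' (w := [1, 2, 0, 1, 3, 4, 2, 3, 1, 0, 2, 1, 3, 2, 4, 3, 1, 0, 2, 1]) (r' := [1, 0, 2, 1])
        (h1 := [3, 2, 4, 3]) (by decide +kernel) (by decide +kernel) (by decide +kernel) (by decide)

theorem h_mul_mem {c : Spor.Fi24} (hc : c ∈ HH) {q : Spor.Fi24 ⧸ HH} (hq : q ∈ cosets) : c • q ∈ cosets := by
  have key : ∀ r, q ∈ orbOf r → c • q ∈ orbOf r := by
    rintro r ⟨h, hh, rfl⟩
    exact ⟨c * h, HH.mul_mem hc hh, by rw [MulAction.Quotient.smul_coe, smul_eq_mul, mul_assoc]⟩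
  rcases hq with (hq | hq) | hq
  exacts [Or.inl (Or.inl (key _ hq)), Or.inl (Or.inr (key _ hq)), Or.inr (key _ hq)]

theorem closure_x : HH ⊔ Subgroup.zpowers xx = ⊤ := by
  refine top_le_iff.1 (g_gen ▸ (Subgroup.closure_le _).2 ?_)
  rintro _ ⟨s, hs, rfl⟩
  rcases eq_or_ne s 1 with rfl | hs1
  · have hw : isLoop [1, 2, 3, 1, 0, 2, 1, 3, 1, 0, 2, 1] = true := by decide +kernel
    have h := mem_of_isLoop hw
    rw [show ([1, 2, 3, 1, 0, 2, 1, 3, 1, 0, 2, 1] : List ℕ) = [1] ++ [2, 3] ++ xWord ++ [3] ++ xWord from rfl] at h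
    simp only [ev_append] at h
    have h2 : ev g [2, 3] ∈ HH := mem_HH (by decide +kernel)
    have h3 : ev g [3] ∈ HH := mem_HH (by decide +kernel)
    have hx : xx ∈ HH ⊔ Subgroup.zpowers xx := Subgroup.mem_sup_right (Subgroup.mem_zpowers _)
    have := mul_mem (Subgroup.mem_sup_left h) (inv_mem (mul_mem (mul_mem (mul_mem (Subgroup.mem_sup_left h2) hx)
      (Subgroup.mem_sup_left h3)) hx) : (ev g [2, 3] * xx * ev g [3] * xx)⁻¹ ∈ HH ⊔ Subgroup.zpowers xx)
    simpa [ev, xx, mul_assoc] using this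
  · exact Subgroup.mem_sup_left (mem_single (by interval_cases s <;> first | omega | decide))

theorem cosets_eq : cosets = Set.univ := by
  refine Set.eq_univ_of_forall fun q => ?_
  induction q using QuotientGroup.induction_on with
  | _ y =>
    have hy : y ∈ Subgroup.closure ((HH : Set Spor.Fi24) ∪ {xx}) := by
      rw [Subgroup.closure_union, Subgroup.closure_eq, ← Subgroup.zpowers_eq_closure, closure_x]
      exact Subgroup.mem_top y
    induction hy using Subgroup.closure_induction_left with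
    | one => exact Or.inl (Or.inl ⟨1, HH.one_mem, by simp⟩)
    | mul_left c hc z _ ih =>
      rw [← smul_eq_mul, ← MulAction.Quotient.smul_coe]
      rcases hc with hc | rfl
      exacts [h_mul_mem hc ih, x_mul_mem ih]
    | inv_mul_cancel c hc z _ ih =>
      rw [← smul_eq_mul, ← MulAction.Quotient.smul_coe]
      rcases hc with hc | rfl
      exacts [h_mul_mem (HH.inv_mem hc) ih, by rw [inv_eq_of_mul_eq_one_left xx_sq]; exact x_mul_mem ih]

theorem orb_le {r : Spor.Fi24} (hr : r * r = 1) (T : Subgroup Spor.Fi23) (hT : ∀ t ∈ T, phi t ∈ fixer r)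
    (hl : ∀ y ∈ HH, ∃ f, (phi f)⁻¹ * y ∈ fixer r) : (orbOf r).Finite ∧ (orbOf r).ncard ≤ T.index := by
  have := Fi23.finite
  let F : Spor.Fi23 ⧸ T → Spor.Fi24 ⧸ HH :=
    Quotient.lift (fun f => ((phi f * r : Spor.Fi24) : Spor.Fi24 ⧸ HH)) fun a b h => by
      have hab := hT _ (QuotientGroup.leftRel_apply.1 h)
      show ((phi a * r : Spor.Fi24) : Spor.Fi24 ⧸ HH) = ((phi b * r : Spor.Fi24) : Spor.Fi24 ⧸ HH)
      rw [show b = a * (a⁻¹ * b) by group, map_mul, fix_mk _ hr hab]
  have hsub : orbOf r ⊆ Set.range F := by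
    rintro _ ⟨y, hy, rfl⟩
    obtain ⟨f, hf⟩ := hl y hy
    refine ⟨QuotientGroup.mk f, ?_⟩
    rw [show y = phi f * ((phi f)⁻¹ * y) by group, fix_mk _ hr hf]
    rfl
  refine ⟨(Set.finite_range F).subset hsub, ?_⟩
  calc (orbOf r).ncard ≤ (Set.range F).ncard := Set.ncard_le_ncard hsub (Set.finite_range F)
    _ ≤ Nat.card (Spor.Fi23 ⧸ T) := by
      rw [← Nat.card_coe_set_eq]
      exact Nat.card_le_card_of_surjective _ Set.rangeFactorization_surjective
    _ = T.index := rfl

theorem orb_x : (orbOf xx).Finite ∧ (orbOf xx).ncard ≤ 31671 := by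
  obtain ⟨h1, h2⟩ := orb_le xx_sq (stab Fi23.piA pX) (fun t ht => phi_cx (stabX ▸ ht)) fun y hy => by
    obtain ⟨f, e, rfl⟩ := exists_phi_eq hy
    exact ⟨f, by rw [inv_mul_cancel_left]; exact pow_mem_x e⟩
  exact ⟨h1, h2.trans (le_of_eq (index_stab trX))⟩

theorem orb_k : (orbOf (g 1)).Finite ∧ (orbOf (g 1)).ncard ≤ 275264 := by
  have := Fi23.finite
  set T := (fixer (g 1)).comap phi
  set T' := fixK.comap phi
  have hle : T ≤ T' := Subgroup.comap_mono le_sup_left
  -- some element of fixer (g 1) is a product of an element of the image and l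
  have hb : g 3 ∈ fixer (g 1) := by simpa [ev] using letters_fix_k (w := [3]) (by decide)
  obtain ⟨h1, h2⟩ := orb_le (g_sq 1) T (fun _ ht => ht) fun y hy => by
    obtain ⟨f, e, rfl⟩ := exists_phi_eq hy
    rcases Nat.mod_two_eq_zero_or_one e with he | he
    · exact ⟨f, by rw [inv_mul_cancel_left, l_pow_even he]; exact one_mem _⟩
    · refine ⟨f * (Fi23.g 1)⁻¹, ?_⟩
      rw [← Nat.div_add_mod e 2, he, pow_succ, l_pow_even (by omega), one_mul, map_mul, map_inv, phi_g, sigma,
        if_pos (by omega), mul_inv_rev, inv_inv, mul_assoc (g (1 + 2) * g 0), inv_mul_cancel_left,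
        mul_assoc, g_sq, mul_one]
      exact hb
  refine ⟨h1, h2.trans ?_⟩
  have hrel : T.relIndex T' ≤ 2 := by
    rw [Subgroup.relIndex, Subgroup.index]
    by_cases hne : ∃ f₀ ∈ T', f₀ ∉ T
    · obtain ⟨f₀, hf₀, hn⟩ := hne
      have h0 : phi f₀ * g 0 ∈ fixer (g 1) := (mem_fixK hf₀).resolve_left hn
      let j : Fin 2 → T' ⧸ T.subgroupOf T' := fun i => if i = 0 then QuotientGroup.mk 1 else QuotientGroup.mk ⟨f₀, hf₀⟩
      refine (Nat.card_le_card_of_surjective j fun q => ?_).trans_eq (by simp)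
      induction q using QuotientGroup.induction_on with
      | _ z =>
        by_cases hz : (z : Spor.Fi23) ∈ T
        · exact ⟨0, QuotientGroup.eq.2 (by simpa [Subgroup.mem_subgroupOf] using hz)⟩
        · refine ⟨1, QuotientGroup.eq.2 (Subgroup.mem_subgroupOf.2 ?_)⟩
          have hz' : phi z * g 0 ∈ fixer (g 1) := (mem_fixK z.2).resolve_left hz
          show phi ((f₀ : Spor.Fi23)⁻¹ * z) ∈ fixer (g 1)
          have := mul_mem (inv_mem h0) hz'
          rwa [mul_inv_rev, g_inv, mul_assoc, ← mul_assoc _ (phi z), ← map_inv, ← map_mul,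
            ← mul_assoc, (l_comm_phi _).eq, mul_assoc, g_sq, mul_one] at this
    · push Not at hne
      refine (Nat.card_le_card_of_surjective (fun _ : Fin 1 => (QuotientGroup.mk 1 : T' ⧸ T.subgroupOf T'))
        fun q => ?_).trans (by simp)
      induction q using QuotientGroup.induction_on with
      | _ z => exact ⟨0, QuotientGroup.eq.2 (by simpa [Subgroup.mem_subgroupOf] using hne _ z.2)⟩
  have hk : 29713078886400 ≤ Nat.card T' :=
    card_kp.trans (Subgroup.card_le_of_le fun f hf => phi_kp hf)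
  have hidx : T'.index ≤ 137632 := by
    have h := T'.index_mul_card
    rw [Fi23.card_eq] at h
    by_contra hc
    have : 137633 * 29713078886400 ≤ 4089470473293004800 := h ▸ Nat.mul_le_mul (by omega) hk
    omega
  rw [← Subgroup.relIndex_mul_index hle]
  exact (Nat.mul_le_mul hrel hidx).trans (by norm_num)

theorem index_HH : HH.FiniteIndex ∧ HH.index ≤ 306936 := by
  have h1 : orbOf 1 = {((1 : Spor.Fi24) : Spor.Fi24 ⧸ HH)} := by
    ext q
    constructor
    · rintro ⟨h, hh, rfl⟩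
      exact Set.mem_singleton_iff.2 (by rw [mul_one, ← one_mul h, mk_mul_right _ hh])
    · rintro rfl
      exact ⟨1, HH.one_mem, by rw [mul_one]⟩
  obtain ⟨fk, nk⟩ := orb_k
  obtain ⟨fx, nx⟩ := orb_x
  have hu := cosets_eq
  rw [cosets, h1] at hu
  have hf : (Set.univ : Set (Spor.Fi24 ⧸ HH)).Finite := hu ▸ ((Set.finite_singleton _).union fk).union fx
  have : Finite (Spor.Fi24 ⧸ HH) := Set.finite_univ_iff.1 hf
  refine ⟨Subgroup.finiteIndex_of_finite_quotient, ?_⟩
  rw [Subgroup.index, ← Set.ncard_univ, ← hu]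
  exact ((Set.ncard_union_le _ _).trans (Nat.add_le_add ((Set.ncard_union_le _ _).trans
    (Nat.add_le_add (le_of_eq (Set.ncard_singleton _)) nk)) nx)).trans (by norm_num)

end Cfsg.Agent.Spor.Cos.Fi24Up
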